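import Mathlib
import Groth.Prelude.Def_FEt

/-!
# Finite étale covers: basic facts

* morphisms of covers are finite étale; equalizer locus of two morphisms is clopen;
* geometric points over a point (`exists_fiber_point`);
* `eq_of_restrict_eq`, `eq_of_fiber`, `isIso_of_fiber` (criteria via clopen sets of the base).
-/

set_option autoImplicit false
set_option linter.style.haveILetI false

noncomputable section

open AlgebraicGeometry CategoryTheory CategoryTheory.Limits

namespace Groth.Agent.FEtLib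

universe u

variable {X X' : Scheme.{u}}

instance isFinite_hom (Y : FEt.Cat X) : IsFinite Y.hom := Y.prop.1

instance etale_hom (Y : FEt.Cat X) : Etale Y.hom := Y.prop.2

@[reassoc (attr := simp)]
theorem w {Y Z : FEt.Cat X} (φ : Y ⟶ Z) : φ.left ≫ Z.hom = Y.hom := Over.w φ.hom

instance isFinite_left {Y Z : FEt.Cat X} (φ : Y ⟶ Z) : IsFinite φ.left := by
  have : IsFinite (φ.left ≫ Z.hom) := by rw [w]; infer_instance
  exact IsFinite.of_comp φ.left Z.hom

instance etale_left {Y Z : FEt.Cat X} (φ : Y ⟶ Z) : Etale φ.left := by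
  have : Etale (φ.left ≫ Z.hom) := by rw [w]; infer_instance
  exact Etale.of_comp φ.left Z.hom

/-- a finite étale morphism as a cover -/
abbrev mk {T : Scheme.{u}} (g : T ⟶ X) [IsFinite g] [Etale g] : FEt.Cat X :=
  MorphismProperty.Over.mk _ g ⟨inferInstance, inferInstance⟩

theorem hom_ext {Y Z : FEt.Cat X} {φ ψ : Y ⟶ Z} (h : φ.left = ψ.left) : φ = ψ :=
  MorphismProperty.Over.Hom.ext h

/-- morphism of covers from a compatible morphism of schemes -/
abbrev homMk {Y Z : FEt.Cat X} (h : Y.left ⟶ Z.left) (hh : h ≫ Z.hom = Y.hom := by aesop_cat) :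
    Y ⟶ Z :=
  MorphismProperty.Over.homMk h hh

theorem isIso_of_isIso_left {Y Z : FEt.Cat X} (φ : Y ⟶ Z) [IsIso φ.left] : IsIso φ := by
  refine ⟨homMk (inv φ.left) (by rw [IsIso.inv_comp_eq, w]), hom_ext ?_, hom_ext ?_⟩
  · exact IsIso.hom_inv_id φ.left
  · exact IsIso.inv_hom_id φ.left

/-- finite étale images of clopen sets are clopen -/
theorem isClopen_image {T S : Scheme.{u}} (g : T ⟶ S) [IsFinite g] [Etale g] {W : Set T}
    (hW : IsClopen W) : IsClopen (g '' W) :=
  ⟨g.isClosedMap _ hW.1, g.isOpenMap _ hW.2⟩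

theorem isClopen_range {T S : Scheme.{u}} (g : T ⟶ S) [IsOpenImmersion g] [IsClosedImmersion g] :
    IsClopen (Set.range g) :=
  ⟨g.isClosedEmbedding.isClosed_range, g.isOpenEmbedding.isOpen_range⟩

theorem isIso_of_range_eq_univ {T S : Scheme.{u}} (g : T ⟶ S) [IsOpenImmersion g]
    (h : Set.range g = Set.univ) : IsIso g :=
  (isIso_iff_isOpenImmersion_and_surjective g).mpr ⟨‹_›, ⟨Set.range_eq_univ.mp h⟩⟩

/-- the locus where two morphisms of covers agree -/
theorem exists_agree {Y Z : FEt.Cat X} (φ ψ : Y ⟶ Z) :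
    ∃ (E : Scheme.{u}) (j : E ⟶ Y.left), IsOpenImmersion j ∧ IsClosedImmersion j ∧
      j ≫ φ.left = j ≫ ψ.left ∧
      ∀ {T : Scheme.{u}} (t : T ⟶ Y.left), t ≫ φ.left = t ≫ ψ.left →
        Set.range t ⊆ Set.range j := by
  let p : Y.left ⟶ pullback Z.hom Z.hom := pullback.lift φ.left ψ.left (by simp)
  let j := pullback.fst p (pullback.diagonal Z.hom)
  refine ⟨_, j, inferInstance, inferInstance, ?_, fun {T} t ht => ?_⟩
  · have h := pullback.condition (f := p) (g := pullback.diagonal Z.hom)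
    have h1 : j ≫ φ.left = pullback.snd p _ := by
      simpa [p, j, pullback.lift_fst] using congr($h ≫ pullback.fst Z.hom Z.hom)
    have h2 : j ≫ ψ.left = pullback.snd p _ := by
      simpa [p, j, pullback.lift_snd] using congr($h ≫ pullback.snd Z.hom Z.hom)
    rw [h1, h2]
  · have hl : t ≫ p = (t ≫ φ.left) ≫ pullback.diagonal Z.hom := by
      apply pullback.hom_ext <;> simp [p, ht, pullback.lift_fst, pullback.lift_snd]
    rintro _ ⟨x, rfl⟩
    exact ⟨pullback.lift t _ hl x, by rw [← Scheme.Hom.comp_apply, pullback.lift_fst]⟩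

/-- morphisms agreeing on enough points are equal -/
theorem eq_of_forall {Y Z : FEt.Cat X} (φ ψ : Y ⟶ Z)
    (H : ∀ W : Set X, IsClopen W → W.Nonempty → ∃ x ∈ W, ∀ y : Y.left, Y.hom y = x →
      ∃ (T : Scheme.{u}) (t : T ⟶ Y.left), y ∈ Set.range t ∧ t ≫ φ.left = t ≫ ψ.left) :
    φ = ψ := by
  obtain ⟨E, j, _, _, hj, hmax⟩ := exists_agree φ ψ
  suffices h : Set.range j = Set.univ by
    haveI := isIso_of_range_eq_univ j h
    exact hom_ext ((cancel_epi j).mp hj)
  by_contra hne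
  have hW := (isClopen_range j).compl
  have hWne : (Set.range j)ᶜ.Nonempty := Set.nonempty_compl.mpr hne
  obtain ⟨x, ⟨y, hy, rfl⟩, hx⟩ := H _ (isClopen_image Y.hom hW) (hWne.image _)
  obtain ⟨T, t, hyt, ht⟩ := hx y rfl
  exact hy (hmax t ht hyt)

theorem restrict_map_left_fst {Y Z : FEt.Cat X} (f : X' ⟶ X) (φ : Y ⟶ Z) :
    ((FEt.restrict f).map φ).left ≫ pullback.fst Z.hom f = pullback.fst Y.hom f ≫ φ.left := by
  exact pullback.lift_fst _ _ _

/-- restriction is faithful when the image meets every nonempty clopen -/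
theorem eq_of_restrict_eq (f : X' ⟶ X)
    (hf : ∀ W : Set X, IsClopen W → W.Nonempty → (W ∩ Set.range f).Nonempty)
    {Y Z : FEt.Cat X} (φ ψ : Y ⟶ Z)
    (h : (FEt.restrict f).map φ = (FEt.restrict f).map ψ) : φ = ψ := by
  refine eq_of_forall φ ψ fun W hW hne => ?_
  obtain ⟨_, hxW, x', rfl⟩ := hf W hW hne
  refine ⟨f x', hxW, fun y hy => ⟨_, pullback.fst Y.hom f, ?_, ?_⟩⟩
  · obtain ⟨z, hz, -⟩ := Scheme.Pullback.exists_preimage_pullback y x' hy
    exact ⟨z, hz⟩
  · rw [← restrict_map_left_fst f φ, ← restrict_map_left_fst f ψ, h]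

theorem faithful_restrict (f : X' ⟶ X)
    (hf : ∀ W : Set X, IsClopen W → W.Nonempty → (W ∩ Set.range f).Nonempty) :
    (FEt.restrict f).Faithful :=
  ⟨fun {_ _} φ ψ h => eq_of_restrict_eq f hf φ ψ h⟩

section Points

variable {Ω : Type u} [Field Ω] (ξ : Spec (CommRingCat.of Ω) ⟶ X)

/-- the point of a geometric point -/
abbrev pt {T : Scheme.{u}} (s : Spec (CommRingCat.of Ω) ⟶ T) : T :=
  s (IsLocalRing.closedPoint Ω)

theorem range_eq_singleton_pt {T : Scheme.{u}} (s : Spec (CommRingCat.of Ω) ⟶ T) :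
    Set.range s = {pt s} := by
  ext t
  refine ⟨?_, fun h => ⟨_, h.symm⟩⟩
  rintro ⟨x, rfl⟩
  exact congr(s $(Subsingleton.elim _ _))

theorem discreteTopology_of_finite {P : Scheme.{u}} (q : P ⟶ Spec (CommRingCat.of Ω)) [IsFinite q] :
    DiscreteTopology P := by
  haveI : IsAffine P := isAffine_of_isAffineHom q
  obtain ⟨φ, hφ⟩ := Spec.map_surjective (P.isoSpec.inv ≫ q)
  have hfin : φ.hom.Finite := (IsFinite.SpecMap_iff φ).mp (hφ ▸ inferInstance)
  letI := φ.hom.toAlgebra
  haveI : Module.Finite Ω Γ(P, ⊤) := hfin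
  haveI : IsArtinianRing Γ(P, ⊤) := isArtinian_of_tower Ω inferInstance
  haveI : DiscreteTopology (Spec Γ(P, ⊤)) := inferInstanceAs (DiscreteTopology (PrimeSpectrum _))
  exact P.isoSpec.hom.homeomorph.symm.discreteTopology

theorem exists_fiber_point [IsAlgClosed Ω] (Y : FEt.Cat X) (y : Y.left)
    (hy : Y.hom y = pt ξ) : ∃ s : FEt.fiberObj ξ Y, pt s.1 = y := by
  obtain ⟨p, hp, -⟩ :=
    Scheme.Pullback.exists_preimage_pullback (f := Y.hom) (g := ξ) y (IsLocalRing.closedPoint Ω) hy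
  haveI : IsFinite (pullback.snd Y.hom ξ) := inferInstance
  haveI := discreteTopology_of_finite (pullback.snd Y.hom ξ)
  have hc : IsClosed {p} := isClosed_discrete _
  refine ⟨⟨pointOfClosedPoint (pullback.snd Y.hom ξ) p hc ≫ pullback.fst Y.hom ξ, ?_⟩, ?_⟩
  · rw [Category.assoc, pullback.condition, pointOfClosedPoint_comp_assoc]
  · refine (Scheme.Hom.comp_apply _ _ _).trans ?_
    exact (congrArg _ (pointOfClosedPoint_apply _ p hc _)).trans hp

theorem pt_fiber_map {Y Z : FEt.Cat X} (φ : Y ⟶ Z) (s : FEt.fiberObj ξ Y) :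
    pt ((FEt.fiber ξ).map φ s).1 = φ.left (pt s.1) := by
  show pt (s.1 ≫ φ.left) = _
  exact Scheme.Hom.comp_apply _ _ _

theorem eq_of_fiber [IsAlgClosed Ω] [PreconnectedSpace X] {Y Z : FEt.Cat X} (φ ψ : Y ⟶ Z)
    (h : ∀ s : FEt.fiberObj ξ Y, (FEt.fiber ξ).map φ s = (FEt.fiber ξ).map ψ s) : φ = ψ := by
  refine eq_of_forall φ ψ fun W hW hne => ⟨pt ξ, by rw [hW.eq_univ hne]; trivial, fun y hy => ?_⟩
  obtain ⟨s, hs⟩ := exists_fiber_point ξ Y y hy
  exact ⟨_, s.1, ⟨_, hs⟩, congrArg Subtype.val (h s)⟩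

end Points

/-- fibrewise bijective morphisms of covers are isomorphisms -/
theorem isIso_of_fiber {Y Z : FEt.Cat X} (φ : Y ⟶ Z)
    (H : ∀ W : Set X, IsClopen W → W.Nonempty →
      ∃ (Ω : Type u) (_ : Field Ω) (_ : IsAlgClosed Ω) (ξ : Spec (CommRingCat.of Ω) ⟶ X),
        pt ξ ∈ W ∧ Function.Bijective ((FEt.fiber ξ).map φ)) : IsIso φ := by
  have hsurj : Set.range φ.left = Set.univ := by
    by_contra hne
    have hclop : IsClopen (Set.range φ.left) := by
      rw [← Set.image_univ]; exact isClopen_image φ.left isClopen_univ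
    obtain ⟨Ω, _, _, ξ, ⟨z, hz, hzξ⟩, hb⟩ :=
      H _ (isClopen_image Z.hom hclop.compl) ((Set.nonempty_compl.mpr hne).image _)
    obtain ⟨s, hs⟩ := exists_fiber_point ξ Z z hzξ
    obtain ⟨t, rfl⟩ := hb.2 s
    exact hz ⟨pt t.1, (pt_fiber_map ξ φ t).symm.trans hs⟩
  haveI : IsOpenImmersion (pullback.diagonal φ.left) := inferInstance
  haveI : IsClosedImmersion (pullback.diagonal φ.left) := inferInstance
  have hdiag : Set.range (pullback.diagonal φ.left) = Set.univ := by
    by_contra hne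
    haveI : IsFinite (pullback.fst φ.left φ.left ≫ Y.hom) := inferInstance
    haveI : Etale (pullback.fst φ.left φ.left ≫ Y.hom) := inferInstance
    let D : FEt.Cat X := mk (pullback.fst φ.left φ.left ≫ Y.hom)
    have hclop := (isClopen_range (pullback.diagonal φ.left)).compl
    obtain ⟨Ω, _, _, ξ, ⟨w', hw', hwξ⟩, hb⟩ :=
      H _ (isClopen_image D.hom hclop) ((Set.nonempty_compl.mpr hne).image _)
    obtain ⟨s, hs⟩ := exists_fiber_point ξ D w' hwξ
    let t₁ : FEt.fiberObj ξ Y := ⟨s.1 ≫ pullback.fst φ.left φ.left, by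
      exact (Category.assoc _ _ _).trans s.2⟩
    let t₂ : FEt.fiberObj ξ Y := ⟨s.1 ≫ pullback.snd φ.left φ.left, by
      have : pullback.snd φ.left φ.left ≫ Y.hom = pullback.fst φ.left φ.left ≫ Y.hom := by
        rw [← w φ, ← reassoc_of% (pullback.condition (f := φ.left) (g := φ.left))]
      exact (Category.assoc _ _ _).trans ((congrArg (s.1 ≫ ·) this).trans s.2)⟩
    have ht : t₁ = t₂ := hb.1 (Subtype.ext (by
      show (s.1 ≫ _) ≫ φ.left = (s.1 ≫ _) ≫ φ.left
      exact ((Category.assoc _ _ _).trans (congrArg (s.1 ≫ ·) pullback.condition)).trans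
        (Category.assoc _ _ _).symm))
    have : s.1 = t₁.1 ≫ pullback.diagonal φ.left := by
      apply pullback.hom_ext
      · exact ((Category.assoc _ _ _).trans
          ((congrArg (t₁.1 ≫ ·) (pullback.diagonal_fst φ.left)).trans (Category.comp_id _))).symm
      · exact ((Category.assoc _ _ _).trans
          ((congrArg (t₁.1 ≫ ·) (pullback.diagonal_snd φ.left)).trans
            ((Category.comp_id _).trans (congrArg Subtype.val ht)))).symm
    exact hw' ⟨pt t₁.1, ((Scheme.Hom.comp_apply _ _ _).symm.trans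
      (congr($(this.symm) (IsLocalRing.closedPoint Ω)))).trans hs⟩
  haveI : IsIso (pullback.diagonal φ.left) := isIso_of_range_eq_univ _ hdiag
  haveI : Mono φ.left := pullback.isIso_diagonal_iff φ.left |>.mp inferInstance
  haveI : IsOpenImmersion φ.left := IsOpenImmersion.of_flat_of_mono φ.left
  haveI := isIso_of_range_eq_univ φ.left hsurj
  exact isIso_of_isIso_left φ

theorem exists_geomPoint (x : X) :
    ∃ (Ω : Type u) (_ : Field Ω) (_ : IsAlgClosed Ω) (ξ : Spec (CommRingCat.of Ω) ⟶ X), pt ξ = x :=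
  ⟨AlgebraicClosure (X.residueField x), inferInstance, inferInstance,
    Spec.map (CommRingCat.ofHom (algebraMap (X.residueField x) (AlgebraicClosure (X.residueField x)))) ≫
      X.fromSpecResidueField x, (Scheme.Hom.comp_apply _ _ _).trans (Scheme.fromSpecResidueField_apply _ _)⟩

theorem isIso_of_fiber_all {Y Z : FEt.Cat X} (φ : Y ⟶ Z)
    (H : ∀ (Ω : Type u) [Field Ω] [IsAlgClosed Ω] (ξ : Spec (CommRingCat.of Ω) ⟶ X),
      Function.Bijective ((FEt.fiber ξ).map φ)) : IsIso φ :=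
  isIso_of_fiber φ fun W _ ⟨x, hx⟩ =>
    let ⟨Ω, i, i', ξ, hξ⟩ := exists_geomPoint x
    ⟨Ω, i, i', ξ, hξ ▸ hx, H Ω ξ⟩

theorem isIso_of_fiber_connected [PreconnectedSpace X] {Ω : Type u} [Field Ω] [IsAlgClosed Ω]
    (ξ : Spec (CommRingCat.of Ω) ⟶ X) {Y Z : FEt.Cat X} (φ : Y ⟶ Z)
    (h : Function.Bijective ((FEt.fiber ξ).map φ)) : IsIso φ :=
  isIso_of_fiber φ fun W hW hne =>
    ⟨Ω, inferInstance, inferInstance, ξ, by rw [hW.eq_univ hne]; trivial, h⟩

end Groth.Agent.FEtLib
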