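import Mathlib

/-!
# Equalizers of maps of finite étale algebras

For two maps `f g : B →ₐ[R] A` of finite étale algebras, `d = f - g` admits a pseudo-inverse
(`d ∘ h ∘ d = d`), so its kernel (the equalizer) is finite étale and its formation commutes with
every base change.
-/

set_option autoImplicit false
set_option linter.style.haveILetI false

open TensorProduct

namespace Groth.Agent.FEtLib

universe u

/-- a linear map with a pseudo-inverse -/
def IsReg {R : Type u} {M N : Type*} [CommRing R] [AddCommGroup M] [Module R M] [AddCommGroup N]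
    [Module R N] (d : M →ₗ[R] N) : Prop :=
  ∃ h : N →ₗ[R] M, d ∘ₗ h ∘ₗ d = d

section Reg

variable {R : Type u} {M N : Type*} [CommRing R] [AddCommGroup M] [Module R M] [AddCommGroup N]
    [Module R N] {d : M →ₗ[R] N}

theorem IsReg.flat_coker (hd : IsReg d) [Module.Flat R N] :
    Module.Flat R (N ⧸ LinearMap.range d) := by
  obtain ⟨h, hh⟩ := hd
  let σ : (N ⧸ LinearMap.range d) →ₗ[R] N :=
    (LinearMap.range d).liftQ (LinearMap.id - d ∘ₗ h) (by
      rintro _ ⟨x, rfl⟩
      have := LinearMap.congr_fun hh x
      simp only [LinearMap.coe_comp, Function.comp_apply] at this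
      simp [this])
  refine Module.Flat.of_retract σ (LinearMap.range d).mkQ ?_
  apply Submodule.linearMap_qext
  ext x
  simp [σ]

theorem IsReg.of_projective_coker [Module.Projective R N]
    [Module.Projective R (N ⧸ LinearMap.range d)] : IsReg d := by
  obtain ⟨σ, hσ⟩ := Module.projective_lifting_property (LinearMap.range d).mkQ LinearMap.id
    (Submodule.mkQ_surjective _)
  have hπ : ∀ x, (LinearMap.id - σ ∘ₗ (LinearMap.range d).mkQ : N →ₗ[R] N) x ∈ LinearMap.range d := fun x => by
    rw [← Submodule.Quotient.mk_eq_zero]
    have := LinearMap.congr_fun hσ ((LinearMap.range d).mkQ x)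
    simp only [LinearMap.coe_comp, Function.comp_apply, LinearMap.id_coe, id_eq,
      Submodule.mkQ_apply] at this
    simp [this]
  obtain ⟨h, hh⟩ := Module.projective_lifting_property d.rangeRestrict
    ((LinearMap.id - σ ∘ₗ (LinearMap.range d).mkQ).codRestrict _ hπ) d.surjective_rangeRestrict
  refine ⟨h, LinearMap.ext fun x => ?_⟩
  have h1 := congrArg Subtype.val (LinearMap.congr_fun hh (d x))
  simp only [LinearMap.coe_comp, Function.comp_apply, LinearMap.codRestrict_apply,
    LinearMap.rangeRestrict] at h1
  have h2 : (LinearMap.range d).mkQ (d x) = 0 := by simp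
  simp only [LinearMap.coe_comp, Function.comp_apply]
  rw [h1, LinearMap.sub_apply, LinearMap.id_apply, LinearMap.comp_apply, h2, map_zero, sub_zero]

theorem IsReg.flat_coker_iff [Module.Finite R M] [Module.FinitePresentation R N]
    [Module.Projective R N] :
    IsReg d ↔ Module.Flat R (N ⧸ LinearMap.range d) := by
  refine ⟨fun hd => hd.flat_coker, fun _ => ?_⟩
  have : (LinearMap.range d).FG := Module.Finite.iff_fg.mp inferInstance
  have : Module.FinitePresentation R (N ⧸ LinearMap.range d) :=
    Module.finitePresentation_of_surjective (LinearMap.range d).mkQ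
      (Submodule.mkQ_surjective _) (by rwa [Submodule.ker_mkQ])
  have : Module.Projective R (N ⧸ LinearMap.range d) := Module.Flat.projective_of_finitePresentation
  exact IsReg.of_projective_coker

/-- the cokernel commutes with base change -/
noncomputable def cokerBaseChange (S : Type*) [CommRing S] [Algebra R S] (d : M →ₗ[R] N) :
    ((S ⊗[R] N) ⧸ LinearMap.range (d.baseChange S)) ≃ₗ[S] S ⊗[R] (N ⧸ LinearMap.range d) :=
  (Submodule.quotEquivOfEq _ _ (by
    have h : Function.Exact (d.baseChange S) ((LinearMap.range d).mkQ.baseChange S) :=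
      lTensor_exact S (LinearMap.exact_map_mkQ_range d) (Submodule.mkQ_surjective _)
    exact h.linearMap_ker_eq.symm)).trans
    (LinearMap.quotKerEquivOfSurjective _
      (LinearMap.lTensor_surjective S (Submodule.mkQ_surjective (LinearMap.range d))))

theorem baseChange_range_subtype_ker (hd : IsReg d) (S : Type*) [CommRing S] [Algebra R S] :
    Function.Injective ((LinearMap.ker d).subtype.baseChange S) ∧
      LinearMap.range ((LinearMap.ker d).subtype.baseChange S) = LinearMap.ker (d.baseChange S) := by
  obtain ⟨h, hh⟩ := hd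
  let p : M →ₗ[R] LinearMap.ker d := (LinearMap.id - h ∘ₗ d).codRestrict _ (fun x => by
    have := LinearMap.congr_fun hh x
    simp only [LinearMap.coe_comp, Function.comp_apply] at this
    simp [LinearMap.mem_ker, this])
  have hp : p ∘ₗ (LinearMap.ker d).subtype = LinearMap.id := by
    ext x; simp [p]
  constructor
  · have : (p.baseChange S) ∘ₗ ((LinearMap.ker d).subtype.baseChange S) = LinearMap.id := by
      rw [← LinearMap.baseChange_comp, hp, LinearMap.baseChange_id]
    exact Function.LeftInverse.injective (LinearMap.congr_fun this)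
  · refine le_antisymm ?_ fun x hx => ⟨p.baseChange S x, ?_⟩
    · rintro _ ⟨x, rfl⟩
      rw [LinearMap.mem_ker, ← LinearMap.comp_apply, ← LinearMap.baseChange_comp,
        LinearMap.comp_ker_subtype, LinearMap.baseChange_zero, LinearMap.zero_apply]
    · have : (LinearMap.ker d).subtype ∘ₗ p = LinearMap.id - h ∘ₗ d := by ext y; simp [p]
      rw [← LinearMap.comp_apply, ← LinearMap.baseChange_comp, this, LinearMap.baseChange_sub,
        LinearMap.baseChange_id, LinearMap.baseChange_comp, LinearMap.sub_apply,
        LinearMap.comp_apply, LinearMap.mem_ker.mp hx, map_zero, sub_zero, LinearMap.id_apply]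

end Reg

/-- `f - g` as a linear map -/
abbrev diff {R : Type u} {A B : Type*} [CommRing R] [CommRing A] [CommRing B] [Algebra R A]
    [Algebra R B] (f g : B →ₐ[R] A) : B →ₗ[R] A :=
  f.toLinearMap - g.toLinearMap

theorem diff_baseChange {R : Type u} {A B : Type*} [CommRing R] [CommRing A] [CommRing B]
    [Algebra R A] [Algebra R B] (S : Type*) [CommRing S] [Algebra R S] (f g : B →ₐ[R] A) :
    (diff f g).baseChange S =
      diff (Algebra.TensorProduct.map (AlgHom.id S S) f)
        (Algebra.TensorProduct.map (AlgHom.id S S) g) := by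
  ext x; simp

theorem flat_coker_of_equiv {R : Type u} {A B A' B' : Type*} [CommRing R]
    [CommRing A] [CommRing B] [Algebra R A] [Algebra R B]
    [CommRing A'] [CommRing B'] [Algebra R A'] [Algebra R B']
    (eA : A ≃ₐ[R] A') (eB : B ≃ₐ[R] B') (f g : B →ₐ[R] A)
    (h : Module.Flat R (A' ⧸ LinearMap.range
      (diff ((eA.toAlgHom.comp f).comp eB.symm.toAlgHom) ((eA.toAlgHom.comp g).comp eB.symm.toAlgHom)))) :
    Module.Flat R (A ⧸ LinearMap.range (diff f g)) := by
  refine @Module.Flat.of_linearEquiv R _ _ _ _ _ _ _ h (Submodule.Quotient.equiv _ _ eA.toLinearEquiv ?_)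
  ext x
  constructor
  · rintro ⟨_, ⟨b, rfl⟩, rfl⟩
    exact ⟨eB b, by simp [map_sub]⟩
  · rintro ⟨b, rfl⟩
    exact ⟨diff f g (eB.symm b), ⟨_, rfl⟩, by simp [map_sub]⟩

/-- over a local ring, algebra maps between split algebras are given by maps of index sets -/
theorem exists_index_of_local {R : Type u} [CommRing R] [IsLocalRing R] {m : ℕ}
    (φ : (Fin m → R) →ₐ[R] R) : ∃ j, ∀ v, φ v = v j := by
  classical
  have hid : ∀ j, φ (Pi.single j 1) = 0 ∨ φ (Pi.single j 1) = 1 := fun j => by
    have h : IsIdempotentElem (φ (Pi.single j 1)) := by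
      rw [IsIdempotentElem, ← map_mul]
      congr 1
      ext i; by_cases hi : i = j
      · subst hi; simp
      · simp [hi]
    rcases (IsLocalRing.isUnit_or_isUnit_one_sub_self (φ (Pi.single j 1))) with hu | hu
    · exact .inr (hu.mul_left_cancel (by rw [mul_one]; exact h))
    · exact .inl (hu.mul_left_cancel (by rw [mul_zero, sub_mul, one_mul, h, sub_self]))
  have hsum : ∀ v : Fin m → R, φ v = ∑ j, v j * φ (Pi.single j 1) := fun v => by
    conv_lhs => rw [pi_eq_sum_univ' v]
    rw [map_sum]
    exact Finset.sum_congr rfl fun j _ => by rw [map_smul]; rfl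
  obtain ⟨j, hj⟩ : ∃ j, φ (Pi.single j 1) = 1 := by
    by_contra hne
    push Not at hne
    have := hsum 1
    rw [map_one, Finset.sum_eq_zero fun j _ => by rw [(hid j).resolve_right (hne j), mul_zero]]
      at this
    exact one_ne_zero this
  refine ⟨j, fun v => ?_⟩
  rw [hsum, Finset.sum_eq_single j (fun i _ hij => ?_) (by simp), hj, mul_one]
  have : φ (Pi.single i 1) * φ (Pi.single j 1) = 0 := by
    rw [← map_mul]
    convert map_zero φ
    ext k; by_cases hk : k = i
    · subst hk; simp [hij]
    · simp [hk]
  rw [hj, mul_one] at this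
  rw [this, mul_zero]

theorem flat_coker_split_local {R : Type u} [CommRing R] [IsLocalRing R] {m n : ℕ}
    (f g : (Fin m → R) →ₐ[R] (Fin n → R)) :
    Module.Flat R ((Fin n → R) ⧸ LinearMap.range (diff f g)) := by
  classical
  choose a ha using fun i => exists_index_of_local ((Pi.evalAlgHom R _ i).comp f)
  choose b hb using fun i => exists_index_of_local ((Pi.evalAlgHom R _ i).comp g)
  let D : Matrix (Fin n) (Fin m) ℤ :=
    Matrix.of fun i j => (if a i = j then 1 else 0) - (if b i = j then 1 else 0)
  have hD : ∀ (v : Fin m → ℤ) i, Matrix.toLin' D v i = v (a i) - v (b i) := fun v i => by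
    simp [D, Matrix.mulVec, dotProduct, sub_mul, Finset.sum_sub_distrib]
  have : Module.IsTorsionFree ℤ ((Fin n → ℤ) ⧸ LinearMap.range (Matrix.toLin' D)) := by
    rw [Module.isTorsionFree_iff_smul_eq_zero]
    intro k x hk
    induction x using Submodule.Quotient.induction_on with
    | H w =>
      rw [← Submodule.Quotient.mk_smul, Submodule.Quotient.mk_eq_zero] at hk
      obtain ⟨v, hv⟩ := hk
      rcases eq_or_ne k 0 with hk0 | hk0
      · exact .inl hk0
      refine .inr ((Submodule.Quotient.mk_eq_zero _).mpr ⟨fun j => v j / k, ?_⟩)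
      ext i
      rw [hD]
      have h1 : v (a i) = v (b i) + k * w i := by
        have := congrFun hv i
        rw [hD, Pi.smul_apply, smul_eq_mul] at this
        omega
      rw [h1, Int.add_mul_ediv_left _ _ hk0]
      ring
  have : Module.Free ℤ ((Fin n → ℤ) ⧸ LinearMap.range (Matrix.toLin' D)) :=
    Module.free_of_finite_type_torsion_free'
  obtain ⟨h, hh⟩ := IsReg.of_projective_coker (d := Matrix.toLin' D)
  have hh' : D * LinearMap.toMatrix' h * D = D := by
    have := congrArg LinearMap.toMatrix' hh
    rw [LinearMap.toMatrix'_comp, LinearMap.toMatrix'_comp, LinearMap.toMatrix'_toLin'] at this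
    rw [Matrix.mul_assoc]; exact this
  let c := (Int.castRingHom R)
  have hd : diff f g = Matrix.toLin' (D.map c) := by
    refine LinearMap.ext fun v => funext fun i => ?_
    have h1 := ha i v
    have h2 := hb i v
    simp only [AlgHom.coe_comp, Function.comp_apply, Pi.evalAlgHom_apply] at h1 h2
    simp [D, c, Matrix.mulVec, dotProduct, sub_mul, Finset.sum_sub_distrib, h1, h2]
  rw [hd]
  apply IsReg.flat_coker
  refine ⟨Matrix.toLin' ((LinearMap.toMatrix' h).map c), ?_⟩
  rw [← Matrix.toLin'_mul, ← Matrix.toLin'_mul, ← Matrix.mul_assoc, ← Matrix.map_mul,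
    ← Matrix.map_mul, hh']

theorem flat_coker_split {R : Type u} [CommRing R] {m n : ℕ}
    (f g : (Fin m → R) →ₐ[R] (Fin n → R)) :
    Module.Flat R ((Fin n → R) ⧸ LinearMap.range (diff f g)) := by
  classical
  apply Module.flat_of_localized_maximal
  intro P _
  let S := Localization.AtPrime P
  have : Module.Flat S ((S ⊗[R] (Fin n → R)) ⧸ LinearMap.range ((diff f g).baseChange S)) := by
    rw [diff_baseChange]
    exact flat_coker_of_equiv (Algebra.TensorProduct.piScalarRight R S S (Fin n))
      (Algebra.TensorProduct.piScalarRight R S S (Fin m)) _ _ (flat_coker_split_local _ _)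
  have h2 : Module.Flat S (S ⊗[R] ((Fin n → R) ⧸ LinearMap.range (diff f g))) :=
    Module.Flat.of_linearEquiv (cokerBaseChange S (diff f g)).symm
  haveI : Module.Flat R (S ⊗[R] ((Fin n → R) ⧸ LinearMap.range (diff f g))) := Module.Flat.trans R S _
  exact Module.Flat.of_linearEquiv
    ((LocalizedModule.equivTensorProduct P.primeCompl ((Fin n → R) ⧸ LinearMap.range (diff f g))).restrictScalars R)

section FiniteEtale

variable {R A B : Type u} [CommRing R] [CommRing A] [CommRing B] [Algebra R A] [Algebra R B]
  [Module.Finite R A] [Algebra.Etale R A] [Module.Finite R B] [Algebra.Etale R B]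

theorem finitePresentation_module (R A : Type u) [CommRing R] [CommRing A] [Algebra R A]
    [Module.Finite R A] [Algebra.Etale R A] : Module.FinitePresentation R A :=
  Module.FinitePresentation.of_finite_of_finitePresentation R A

theorem projective_module (R A : Type u) [CommRing R] [CommRing A] [Algebra R A]
    [Module.Finite R A] [Algebra.Etale R A] : Module.Projective R A :=
  haveI := finitePresentation_module R A
  Module.Flat.projective_of_finitePresentation

theorem flat_coker_local [IsLocalRing R] (f g : B →ₐ[R] A) :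
    Module.Flat R (A ⧸ LinearMap.range (diff f g)) := by
  have hA : Module.rankAtStalk (R := R) A = Module.finrank R A := by
    haveI := projective_module R A
    haveI : Module.Free R A := Module.free_of_flat_of_isLocalRing
    exact Module.rankAtStalk_eq_finrank_of_free
  have hB : Module.rankAtStalk (R := R) B = Module.finrank R B := by
    haveI := projective_module R B
    haveI : Module.Free R B := Module.free_of_flat_of_isLocalRing
    exact Module.rankAtStalk_eq_finrank_of_free
  obtain ⟨T₁, _, _, _, _, _, hT₁⟩ := Algebra.IsFiniteSplit.exists_tensorProduct_of_etale hA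
  obtain ⟨T₂, _, _, _, _, _, hT₂⟩ := Algebra.IsFiniteSplit.exists_tensorProduct_of_etale hB
  let T := T₁ ⊗[R] T₂
  haveI : Module.FaithfullyFlat R T := Module.FaithfullyFlat.trans R T₁ T
  have h1 : Algebra.IsFiniteSplit T (T ⊗[R] A) :=
    .of_algEquiv (Algebra.TensorProduct.cancelBaseChange R T₁ T T A)
  letI : Algebra T₂ T := Algebra.TensorProduct.rightAlgebra
  have h2 : Algebra.IsFiniteSplit T (T ⊗[R] B) :=
    .of_algEquiv (Algebra.TensorProduct.cancelBaseChange R T₂ T T B)
  obtain ⟨n, ⟨eA⟩⟩ := h1.nonempty_algEquiv_fun
  obtain ⟨m, ⟨eB⟩⟩ := h2.nonempty_algEquiv_fun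
  have : Module.Flat T ((T ⊗[R] A) ⧸ LinearMap.range ((diff f g).baseChange T)) := by
    rw [diff_baseChange]
    exact flat_coker_of_equiv eA eB _ _ (flat_coker_split _ _)
  haveI : Module.Flat T (T ⊗[R] (A ⧸ LinearMap.range (diff f g))) :=
    Module.Flat.of_linearEquiv (cokerBaseChange T (diff f g)).symm
  exact Module.Flat.of_flat_tensorProduct R _ T

theorem isReg_diff (f g : B →ₐ[R] A) : IsReg (diff f g) := by
  haveI := finitePresentation_module R A
  haveI := projective_module R A
  rw [IsReg.flat_coker_iff]
  apply Module.flat_of_localized_maximal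
  intro P _
  let S := Localization.AtPrime P
  have : Module.Flat S ((S ⊗[R] A) ⧸ LinearMap.range ((diff f g).baseChange S)) := by
    rw [diff_baseChange]
    exact flat_coker_local _ _
  have h2 : Module.Flat S (S ⊗[R] (A ⧸ LinearMap.range (diff f g))) :=
    Module.Flat.of_linearEquiv (cokerBaseChange S (diff f g)).symm
  haveI : Module.Flat R (S ⊗[R] (A ⧸ LinearMap.range (diff f g))) := Module.Flat.trans R S _
  exact Module.Flat.of_linearEquiv
    ((LocalizedModule.equivTensorProduct P.primeCompl (A ⧸ LinearMap.range (diff f g))).restrictScalars R)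

omit [Module.Finite R A] [Algebra.Etale R A] [Module.Finite R B] [Algebra.Etale R B] in
theorem equalizer_toSubmodule (f g : B →ₐ[R] A) :
    Subalgebra.toSubmodule (AlgHom.equalizer f g) = LinearMap.ker (diff f g) := by
  ext x; simp [sub_eq_zero]

/-- the equalizer commutes with base change -/
theorem equalizer_baseChange (f g : B →ₐ[R] A) (S : Type u) [CommRing S] [Algebra R S] :
    Function.Injective (Algebra.TensorProduct.map (AlgHom.id S S) (AlgHom.equalizer f g).val) ∧
      (Algebra.TensorProduct.map (AlgHom.id S S) (AlgHom.equalizer f g).val).range =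
        AlgHom.equalizer (Algebra.TensorProduct.map (AlgHom.id S S) f)
          (Algebra.TensorProduct.map (AlgHom.id S S) g) := by
  obtain ⟨hinj, hr⟩ := baseChange_range_subtype_ker (isReg_diff f g) S
  let e := (LinearEquiv.ofEq _ _ (equalizer_toSubmodule f g)).baseChange R S
  have key : ∀ x, Algebra.TensorProduct.map (AlgHom.id S S) (AlgHom.equalizer f g).val x =
      (LinearMap.ker (diff f g)).subtype.baseChange S (e x) := by
    intro x
    induction x with
    | zero => simp
    | tmul s c => simp [e]
    | add x y hx hy => simp only [map_add, hx, hy]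
  constructor
  · intro x y hxy
    rw [key, key] at hxy
    exact e.injective (hinj hxy)
  · apply Subalgebra.toSubmodule_injective
    rw [equalizer_toSubmodule, ← diff_baseChange, ← hr]
    ext z
    constructor
    · rintro ⟨x, rfl⟩; exact ⟨e x, (key x).symm⟩
    · rintro ⟨x, rfl⟩; exact ⟨e.symm x, (key _).trans (by rw [e.apply_symm_apply])⟩

instance finite_equalizer (f g : B →ₐ[R] A) : Module.Finite R (AlgHom.equalizer f g) := by
  obtain ⟨h, hh⟩ := isReg_diff f g
  have hp : ∀ x, x - h (diff f g x) ∈ Subalgebra.toSubmodule (AlgHom.equalizer f g) := fun x => by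
    rw [equalizer_toSubmodule, LinearMap.mem_ker, map_sub, sub_eq_zero]
    exact (LinearMap.congr_fun hh x).symm
  refine Module.Finite.of_surjective
    ((LinearMap.id - h ∘ₗ diff f g).codRestrict (Subalgebra.toSubmodule (AlgHom.equalizer f g)) hp)
    fun c => ⟨c.1, Subtype.ext ?_⟩
  have hc : diff f g c.1 = 0 := by
    rw [← LinearMap.mem_ker, ← equalizer_toSubmodule]; exact c.2
  show c.1 - h (diff f g c.1) = c.1
  rw [hc, map_zero, sub_zero]

theorem projective_equalizer (f g : B →ₐ[R] A) : Module.Projective R (AlgHom.equalizer f g) := by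
  obtain ⟨h, hh⟩ := isReg_diff f g
  have hp : ∀ x, x - h (diff f g x) ∈ Subalgebra.toSubmodule (AlgHom.equalizer f g) := fun x => by
    rw [equalizer_toSubmodule, LinearMap.mem_ker, map_sub, sub_eq_zero]
    exact (LinearMap.congr_fun hh x).symm
  haveI := projective_module R B
  refine Module.Projective.of_split (M := B) (Subalgebra.toSubmodule (AlgHom.equalizer f g)).subtype
    ((LinearMap.id - h ∘ₗ diff f g).codRestrict (Subalgebra.toSubmodule (AlgHom.equalizer f g)) hp)
    (LinearMap.ext fun c => Subtype.ext ?_)
  have hc : diff f g c.1 = 0 := by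
    rw [← LinearMap.mem_ker, ← equalizer_toSubmodule]; exact c.2
  show c.1 - h (diff f g c.1) = c.1
  rw [hc, map_zero, sub_zero]

theorem etale_of_reduced_of_isAlgClosed (K C : Type u) [Field K] [IsAlgClosed K] [CommRing C]
    [Algebra K C] [Module.Finite K C] [IsReduced C] : Algebra.Etale K C := by
  haveI : IsArtinianRing C := isArtinian_of_tower K inferInstance
  rw [Algebra.Etale.iff_exists_algEquiv_prod]
  letI : ∀ m : MaximalSpectrum C, Field (C ⧸ m.asIdeal) :=
    fun m => Ideal.Quotient.field m.asIdeal
  exact ⟨MaximalSpectrum C, inferInstance, fun m => C ⧸ m.asIdeal, inferInstance, inferInstance,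
    { IsArtinianRing.equivPi C with commutes' := fun _ => rfl }, fun m => ⟨inferInstance, inferInstance⟩⟩

instance etale_equalizer (f g : B →ₐ[R] A) : Algebra.Etale R (AlgHom.equalizer f g) := by
  haveI := projective_equalizer f g
  haveI : Module.FinitePresentation R (AlgHom.equalizer f g) :=
    Module.finitePresentation_of_projective R (AlgHom.equalizer f g)
  haveI : Algebra.FinitePresentation R (AlgHom.equalizer f g) :=
    Algebra.FinitePresentation.of_finitePresentation R _
  haveI : Algebra.FormallyUnramified R (AlgHom.equalizer f g) := by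
    haveI : Module.Finite R Ω[AlgHom.equalizer f g⁄R] :=
      Module.Finite.trans (AlgHom.equalizer f g) _
    refine ⟨not_nontrivial_iff_subsingleton.mp fun hnt => ?_⟩
    obtain ⟨p, hp⟩ := Module.nonempty_support_iff (R := R).mpr hnt
    rw [Module.mem_support_iff_nontrivial_residueField_tensorProduct] at hp
    let K := AlgebraicClosure p.asIdeal.ResidueField
    haveI : IsReduced (K ⊗[R] B) := Algebra.FormallyUnramified.isReduced_of_field K _
    haveI : IsReduced (K ⊗[R] AlgHom.equalizer f g) :=
      isReduced_of_injective _ (equalizer_baseChange f g K).1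
    haveI : Algebra.Etale K (K ⊗[R] AlgHom.equalizer f g) := etale_of_reduced_of_isAlgClosed _ _
    letI : Algebra (AlgHom.equalizer f g) (K ⊗[R] AlgHom.equalizer f g) :=
      Algebra.TensorProduct.rightAlgebra
    haveI : Subsingleton (K ⊗[R] Ω[AlgHom.equalizer f g⁄R]) :=
      (KaehlerDifferential.tensorKaehlerEquivBase R K (AlgHom.equalizer f g)
        (K ⊗[R] AlgHom.equalizer f g)).subsingleton
    haveI : Subsingleton (K ⊗[p.asIdeal.ResidueField]
        (p.asIdeal.ResidueField ⊗[R] Ω[AlgHom.equalizer f g⁄R])) :=
      (AlgebraTensorModule.cancelBaseChange R p.asIdeal.ResidueField K K _).subsingleton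
    haveI : Module.Free p.asIdeal.ResidueField K := Module.Free.of_divisionRing _ _
    haveI : Module.FaithfullyFlat p.asIdeal.ResidueField K := by
      set_option synthInstance.maxHeartbeats 200000 in infer_instance
    exact not_nontrivial_iff_subsingleton.mpr
      (Module.FaithfullyFlat.lTensor_reflects_triviality p.asIdeal.ResidueField K _) hp
  exact Algebra.Etale.of_formallyUnramified_of_flat

end FiniteEtale

end Groth.Agent.FEtLib
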