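import Mathlib
import Groth.Agent.FEtLib.Equalizer

/-!
# Coequalizers of affine morphisms over an affine scheme

`AffOver X` is the category of schemes affine over `X`.  Over an affine base the coequalizer of
`f g : Y ⟶ Z` is the spectrum of the equalizer of `Γ(f)` and `Γ(g)`; it is preserved by base change
along a morphism of affines if the equalizer commutes with the corresponding tensor product.
-/

set_option autoImplicit false
set_option linter.style.haveILetI false

noncomputable section

open AlgebraicGeometry CategoryTheory CategoryTheory.Limits TensorProduct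

namespace Groth.Agent.FEtLib

universe u

/-- affine morphisms as a morphism property -/
abbrev affProp : MorphismProperty Scheme.{u} := @IsAffineHom

instance : affProp.{u}.IsStableUnderBaseChange :=
  inferInstanceAs (MorphismProperty.IsStableUnderBaseChange (@IsAffineHom.{u}))

instance : affProp.{u}.IsMultiplicative :=
  inferInstanceAs (MorphismProperty.IsMultiplicative (@IsAffineHom.{u}))

set_option backward.isDefEq.respectTransparency.types false in
instance : IsZariskiLocalAtTarget affProp.{u} :=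
  inferInstanceAs (IsZariskiLocalAtTarget (@IsAffineHom.{u} : MorphismProperty Scheme.{u}))

/-- schemes affine over `X` -/
abbrev AffOver (X : Scheme.{u}) : Type (u + 1) :=
  affProp.{u}.Over ⊤ X

variable {U U' : Scheme.{u}}

/-- global functions of an object over `U` -/
def Gam (Y : AffOver U) : Type u := Γ(Y.left, ⊤)

instance (Y : AffOver U) : CommRing (Gam Y) := inferInstanceAs (CommRing Γ(Y.left, ⊤))

instance (Y : AffOver U) : Algebra Γ(U, ⊤) (Gam Y) := Y.hom.appTop.hom.toAlgebra

instance isAffineHom_hom (Y : AffOver U) : IsAffineHom Y.hom := Y.prop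

instance isAffine_right [IsAffine U] (Y : AffOver U) :
    IsAffine ((Functor.fromPUnit U).obj Y.right) := ‹IsAffine U›

theorem isAffine_left [IsAffine U] (Y : AffOver U) : IsAffine Y.left := isAffine_of_isAffineHom Y.hom

instance isAffine_left' [IsAffine U] (Y : AffOver U) : IsAffine ((𝟭 Scheme).obj Y.left) :=
  isAffine_left Y

@[reassoc]
theorem AffOver.w {Y Z : AffOver U} (φ : Y ⟶ Z) : φ.left ≫ Z.hom = Y.hom := Over.w φ.hom

theorem isoSpec_inv_appTop' (T : Scheme.{u}) [IsAffine T] :
    T.isoSpec.inv.appTop = (Scheme.ΓSpecIso Γ(T, ⊤)).inv := by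
  have h := congrArg Scheme.Hom.appTop T.isoSpec.hom_inv_id
  rw [Scheme.Hom.comp_appTop, Scheme.Hom.id_appTop, show T.isoSpec.hom = T.toSpecΓ from rfl,
    Scheme.toSpecΓ_appTop] at h
  exact (Iso.comp_hom_eq_id _).mp h

/-- global functions of a morphism over `U` -/
def gamMap {Y Z : AffOver U} (φ : Y ⟶ Z) : Gam Z →ₐ[Γ(U, ⊤)] Gam Y where
  __ := φ.left.appTop.hom
  commutes' r := by
    have h := (Scheme.Hom.comp_appTop φ.left Z.hom).symm.trans (congrArg Scheme.Hom.appTop (AffOver.w φ))
    exact congr($h r)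

theorem gamMap_apply {Y Z : AffOver U} (φ : Y ⟶ Z) (b : Gam Z) :
    gamMap φ b = φ.left.appTop.hom b := rfl

theorem gamMap_comp {Y Z W : AffOver U} (φ : Y ⟶ Z) (ψ : Z ⟶ W) :
    gamMap (φ ≫ ψ) = (gamMap φ).comp (gamMap ψ) :=
  AlgHom.ext fun b => congr($(Scheme.Hom.comp_appTop φ.left ψ.left) b)

theorem AffOver.hom_ext [IsAffine U] {Y Z : AffOver U} {φ ψ : Y ⟶ Z} (h : gamMap φ = gamMap ψ) :
    φ = ψ := by
  haveI := isAffine_left Z
  refine MorphismProperty.Over.Hom.ext ?_
  haveI : IsAffine Z.left := isAffine_left Z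
  exact ext_of_isAffine (CommRingCat.hom_ext (RingHom.ext fun b => congr($h b)))

theorem exists_hom_of_algHom [IsAffine U] {Y Z : AffOver U} (k : Gam Z →ₐ[Γ(U, ⊤)] Gam Y) :
    ∃ φ : Y ⟶ Z, gamMap φ = k := by
  haveI := isAffine_left Z
  let k' : Γ(Z.left, ⊤) ⟶ Γ(Y.left, ⊤) := CommRingCat.ofHom k.toRingHom
  let h : Y.left ⟶ Z.left := Y.left.toSpecΓ ≫ Spec.map k' ≫ Z.left.isoSpec.inv
  have happ : h.appTop = k' := by
    simp only [h, Scheme.Hom.comp_appTop]
    rw [isoSpec_inv_appTop', Category.assoc, Scheme.toSpecΓ_appTop, Scheme.ΓSpecIso_naturality,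
      Iso.inv_hom_id_assoc]
  refine ⟨MorphismProperty.Over.homMk h ?_, AlgHom.ext fun b => congr($happ b)⟩
  refine ext_of_isAffine ?_
  rw [Scheme.Hom.comp_appTop, happ]
  exact CommRingCat.hom_ext (RingHom.ext fun r => k.commutes r)

/-- `π` is the equalizer on global functions -/
def IsEqFork {Y Z C : AffOver U} (f g : Y ⟶ Z) (π : Z ⟶ C) : Prop :=
  Function.Injective (gamMap π) ∧ (gamMap π).range = AlgHom.equalizer (gamMap f) (gamMap g)

theorem IsEqFork.condition [IsAffine U] {Y Z C : AffOver U} {f g : Y ⟶ Z} {π : Z ⟶ C}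
    (h : IsEqFork f g π) : f ≫ π = g ≫ π := by
  refine AffOver.hom_ext (AlgHom.ext fun c => ?_)
  rw [gamMap_comp, gamMap_comp]
  exact (h.2.le ⟨c, rfl⟩ : gamMap π c ∈ AlgHom.equalizer (gamMap f) (gamMap g))

/-- an equalizer fork is a coequalizer -/
def isColimitOfIsEqFork [IsAffine U] {Y Z C : AffOver U} {f g : Y ⟶ Z} {π : Z ⟶ C}
    (h : IsEqFork f g π) : IsColimit (Cofork.ofπ π h.condition) :=
  Cofork.IsColimit.mk' _ fun s => by
    have hex : ∃ φ : C ⟶ s.pt, π ≫ φ = s.π := by
      have hs : ∀ t, gamMap s.π t ∈ (gamMap π).range := fun t => by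
        rw [h.2]
        have := congr(gamMap $(s.condition) t)
        rw [gamMap_comp, gamMap_comp] at this
        exact this
      let e := AlgEquiv.ofInjective (gamMap π) h.1
      obtain ⟨φ, hφ⟩ := exists_hom_of_algHom (e.symm.toAlgHom.comp ((gamMap s.π).codRestrict _ hs))
      refine ⟨φ, AffOver.hom_ext (AlgHom.ext fun t => ?_)⟩
      rw [gamMap_comp, hφ]
      exact congrArg Subtype.val (e.apply_symm_apply ⟨_, hs t⟩)
    refine ⟨hex.choose, hex.choose_spec, fun {m} hm => AffOver.hom_ext (AlgHom.ext fun t => h.1 ?_)⟩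
    have h1 := congr(gamMap $(hm) t)
    have h2 := congr(gamMap $(hex.choose_spec) t)
    erw [gamMap_comp] at h1 h2
    exact h1.trans h2.symm

section Construction

variable [IsAffine U]

/-- the spectrum of an algebra over an affine base -/
def ofAlg (E : Type u) [CommRing E] [Algebra Γ(U, ⊤) E] : AffOver U :=
  MorphismProperty.Over.mk _ (Spec.map (CommRingCat.ofHom (algebraMap Γ(U, ⊤) E)) ≫ U.isoSpec.inv)
    inferInstance

/-- `Γ` of the spectrum of an algebra -/
def gamOfAlg (E : Type u) [CommRing E] [Algebra Γ(U, ⊤) E] : Gam (ofAlg (U := U) E) ≃ₐ[Γ(U, ⊤)] E where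
  __ := (Scheme.ΓSpecIso (CommRingCat.of E)).commRingCatIsoToRingEquiv
  commutes' r := by
    have h : (ofAlg (U := U) E).hom.appTop ≫ (Scheme.ΓSpecIso (CommRingCat.of E)).hom =
        CommRingCat.ofHom (algebraMap Γ(U, ⊤) E) := by
      show (Spec.map (CommRingCat.ofHom (algebraMap Γ(U, ⊤) E)) ≫ U.isoSpec.inv).appTop ≫ _ = _
      rw [Scheme.Hom.comp_appTop, isoSpec_inv_appTop', Category.assoc, Scheme.ΓSpecIso_naturality]
      exact Iso.inv_hom_id_assoc _ _
    exact congr($h r)

theorem exists_isEqFork {Y Z : AffOver U} (f g : Y ⟶ Z) :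
    ∃ π : Z ⟶ ofAlg (AlgHom.equalizer (gamMap f) (gamMap g)), IsEqFork f g π := by
  let e := gamOfAlg (U := U) (AlgHom.equalizer (gamMap f) (gamMap g))
  obtain ⟨π, hπ⟩ := exists_hom_of_algHom ((AlgHom.equalizer (gamMap f) (gamMap g)).val.comp e.toAlgHom)
  refine ⟨π, ?_, ?_⟩
  · rw [hπ]; exact Subtype.val_injective.comp e.injective
  · rw [hπ]
    ext x
    constructor
    · rintro ⟨y, rfl⟩; exact (e y).2
    · intro hx; exact ⟨e.symm ⟨x, hx⟩, congrArg Subtype.val (e.apply_symm_apply ⟨x, hx⟩)⟩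

instance hasCoequalizer_affine {Y Z : AffOver U} (f g : Y ⟶ Z) : HasCoequalizer f g :=
  let ⟨_, h⟩ := exists_isEqFork f g
  ⟨⟨⟨_, isColimitOfIsEqFork h⟩⟩⟩

end Construction

section Algebra

variable {R A B C : Type u} [CommRing R] [CommRing A] [CommRing B] [CommRing C] [Algebra R A]
  [Algebra R B] [Algebra R C]

/-- the equalizer `π` commutes with base change to `S` -/
def TensorEq (S : Type u) [CommRing S] [Algebra R S] (f g : B →ₐ[R] A) (π : C →ₐ[R] B) : Prop :=
  Function.Injective (Algebra.TensorProduct.map (AlgHom.id S S) π) ∧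
    (Algebra.TensorProduct.map (AlgHom.id S S) π).range =
      AlgHom.equalizer (Algebra.TensorProduct.map (AlgHom.id S S) f)
        (Algebra.TensorProduct.map (AlgHom.id S S) g)

theorem tensorEq_of_flat (S : Type u) [CommRing S] [Algebra R S] [Module.Flat R S]
    {f g : B →ₐ[R] A} {π : C →ₐ[R] B} (hinj : Function.Injective π)
    (hr : π.range = AlgHom.equalizer f g) : TensorEq S f g π := by
  have key : ∀ x, Algebra.TensorProduct.map (AlgHom.id S S) π x = π.toLinearMap.lTensor S x := by
    intro x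
    induction x with
    | zero => simp
    | tmul s c => simp
    | add x y hx hy => simp only [map_add, hx, hy]
  have keyd : ∀ x, Algebra.TensorProduct.map (AlgHom.id S S) f x -
      Algebra.TensorProduct.map (AlgHom.id S S) g x = (diff f g).lTensor S x := by
    intro x
    induction x with
    | zero => simp
    | tmul s c => simp [tmul_sub]
    | add x y hx hy => simp only [map_add, ← hx, ← hy]; abel
  have hex : Function.Exact π.toLinearMap (diff f g) := fun b => by
    rw [LinearMap.sub_apply, sub_eq_zero]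
    exact ((SetLike.ext_iff.mp hr) b).symm
  have hex' := Module.Flat.lTensor_exact S hex
  constructor
  · intro x y h
    rw [key, key] at h
    exact Module.Flat.lTensor_preserves_injective_linearMap π.toLinearMap hinj h
  · ext b
    rw [AlgHom.mem_equalizer, ← sub_eq_zero, keyd, hex' b]
    exact ⟨fun ⟨x, hx⟩ => ⟨x, (key x).symm.trans hx⟩, fun ⟨x, hx⟩ => ⟨x, (key x).trans hx⟩⟩

theorem tensorEq_of_etale [Module.Finite R A] [Algebra.Etale R A] [Module.Finite R B]
    [Algebra.Etale R B] (S : Type u) [CommRing S] [Algebra R S]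
    {f g : B →ₐ[R] A} {π : C →ₐ[R] B} (hinj : Function.Injective π)
    (hr : π.range = AlgHom.equalizer f g) : TensorEq S f g π := by
  obtain ⟨h1, h2⟩ := equalizer_baseChange f g S
  let e : C ≃ₐ[R] AlgHom.equalizer f g :=
    (AlgEquiv.ofInjective π hinj).trans (Subalgebra.equivOfEq _ _ hr)
  have hval : π = (AlgHom.equalizer f g).val.comp e.toAlgHom := rfl
  let eS := Algebra.TensorProduct.congr (AlgEquiv.refl (R := S) (A₁ := S)) e
  have key : ∀ x, Algebra.TensorProduct.map (AlgHom.id S S) π x =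
      Algebra.TensorProduct.map (AlgHom.id S S) (AlgHom.equalizer f g).val (eS x) := by
    intro x
    induction x with
    | zero => simp
    | tmul s c => simp [eS, hval]
    | add x y hx hy => simp only [map_add, hx, hy]
  constructor
  · intro x y h
    rw [key, key] at h
    exact eS.injective (h1 h)
  · rw [← h2]
    ext b
    exact ⟨fun ⟨x, hx⟩ => ⟨eS x, (key x).symm.trans hx⟩,
      fun ⟨x, hx⟩ => ⟨eS.symm x, (key _).trans (by rw [eS.apply_symm_apply]; exact hx)⟩⟩

end Algebra

section BaseChange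

variable [IsAffine U] [IsAffine U'] (h : U' ⟶ U)

theorem exists_gam_pullback (Y : AffOver U) :
    letI := h.appTop.hom.toAlgebra
    ∃ θ : Γ(U', ⊤) ⊗[Γ(U, ⊤)] Gam Y ≃+* Gam ((MorphismProperty.Over.pullback affProp ⊤ h).obj Y),
      ∀ r b, θ (r ⊗ₜ b) = (pullback.snd Y.hom h).appTop.hom r * (pullback.fst Y.hom h).appTop.hom b := by
  letI := h.appTop.hom.toAlgebra
  haveI := isAffine_left Y
  have hp := (isPushout_appTop_of_isPullback (IsPullback.of_hasPullback Y.hom h)).flip
  have ht := CommRingCat.isPushout_tensorProduct Γ(U, ⊤) Γ(U', ⊤) (Gam Y)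
  let e := ht.isoIsPushout _ _ hp
  refine ⟨e.commRingCatIsoToRingEquiv, fun r b => ?_⟩
  have h1 := congr($(ht.inl_isoIsPushout_hom _ _ hp) r)
  have h2 := congr($(ht.inr_isoIsPushout_hom _ _ hp) b)
  have : r ⊗ₜ[Γ(U, ⊤)] b = (r ⊗ₜ 1) * (1 ⊗ₜ b) := by simp
  rw [this]
  exact (map_mul e.commRingCatIsoToRingEquiv _ _).trans congr($h1 * $h2)

theorem IsEqFork.map {Y Z C : AffOver U} {f g : Y ⟶ Z} {π : Z ⟶ C}
    (H : letI := h.appTop.hom.toAlgebra; TensorEq Γ(U', ⊤) (gamMap f) (gamMap g) (gamMap π)) :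
    IsEqFork ((MorphismProperty.Over.pullback affProp ⊤ h).map f)
      ((MorphismProperty.Over.pullback affProp ⊤ h).map g)
      ((MorphismProperty.Over.pullback affProp ⊤ h).map π) := by
  letI := h.appTop.hom.toAlgebra
  obtain ⟨θY, hY⟩ := exists_gam_pullback h Y
  obtain ⟨θZ, hZ⟩ := exists_gam_pullback h Z
  obtain ⟨θC, hC⟩ := exists_gam_pullback h C
  have nat : ∀ {V W : AffOver U} (φ : V ⟶ W)
      (θV : Γ(U', ⊤) ⊗[Γ(U, ⊤)] Gam V ≃+* Gam ((MorphismProperty.Over.pullback affProp ⊤ h).obj V))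
      (_ : ∀ r b, θV (r ⊗ₜ b) = (pullback.snd V.hom h).appTop.hom r * (pullback.fst V.hom h).appTop.hom b)
      (θW : Γ(U', ⊤) ⊗[Γ(U, ⊤)] Gam W ≃+* Gam ((MorphismProperty.Over.pullback affProp ⊤ h).obj W))
      (_ : ∀ r b, θW (r ⊗ₜ b) = (pullback.snd W.hom h).appTop.hom r * (pullback.fst W.hom h).appTop.hom b),
      ∀ x : Γ(U', ⊤) ⊗[Γ(U, ⊤)] Gam W, gamMap ((MorphismProperty.Over.pullback affProp ⊤ h).map φ) (θW x) =
        θV (Algebra.TensorProduct.map (AlgHom.id Γ(U', ⊤) Γ(U', ⊤)) (gamMap φ) x) := by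
    intro V W φ θV hV θW hW x
    induction x with
    | zero => simp
    | add x y hx hy => simp only [map_add, hx, hy]
    | tmul r b =>
      simp only [Algebra.TensorProduct.map_tmul, AlgHom.coe_id, id_eq]
      rw [hW, hV]
      refine (map_mul (gamMap ((MorphismProperty.Over.pullback affProp ⊤ h).map φ)) _ _).trans ?_
      refine congrArg₂ (· * ·) ?_ ?_
      · have e1 := congrArg Scheme.Hom.appTop
          (AffOver.w ((MorphismProperty.Over.pullback affProp ⊤ h).map φ))
        rw [Scheme.Hom.comp_appTop] at e1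
        exact congr($e1 r)
      · have hfst : ((MorphismProperty.Over.pullback affProp ⊤ h).map φ).left ≫
            pullback.fst W.hom h = pullback.fst V.hom h ≫ φ.left := pullback.lift_fst _ _ _
        have e1 := ((Scheme.Hom.comp_appTop _ _).symm.trans (congrArg Scheme.Hom.appTop hfst)).trans
          (Scheme.Hom.comp_appTop _ _)
        exact congr($e1 b)
  constructor
  · intro a b hab
    obtain ⟨x, rfl⟩ := θC.surjective a
    obtain ⟨y, rfl⟩ := θC.surjective b
    rw [nat π θZ hZ θC hC, nat π θZ hZ θC hC] at hab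
    rw [H.1 (θZ.injective hab)]
  · ext b
    obtain ⟨x, rfl⟩ := θZ.surjective b
    rw [AlgHom.mem_equalizer, nat f θY hY θZ hZ, nat g θY hY θZ hZ, θY.injective.eq_iff,
      ← AlgHom.mem_equalizer, ← H.2]
    constructor
    · rintro ⟨c, hc⟩
      obtain ⟨y, rfl⟩ := θC.surjective c
      exact ⟨y, θZ.injective ((nat π θZ hZ θC hC y).symm.trans hc)⟩
    · rintro ⟨y, rfl⟩
      exact ⟨θC y, nat π θZ hZ θC hC y⟩

theorem preservesColimit_pullback {Y Z C : AffOver U} {f g : Y ⟶ Z} {π : Z ⟶ C}
    (hπ : IsEqFork f g π)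
    (H : letI := h.appTop.hom.toAlgebra; TensorEq Γ(U', ⊤) (gamMap f) (gamMap g) (gamMap π)) :
    PreservesColimit (parallelPair f g) (MorphismProperty.Over.pullback affProp ⊤ h) :=
  preservesColimit_of_preserves_colimit_cocone (isColimitOfIsEqFork hπ)
    ((isColimitMapCoconeCoforkEquiv _ hπ.condition).symm
      (isColimitOfIsEqFork (IsEqFork.map h H)))

theorem preservesCoequalizers_of_flat [IsOpenImmersion h] :
    PreservesColimitsOfShape WalkingParallelPair
      (MorphismProperty.Over.pullback affProp ⊤ h) where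
  preservesColimit {K} := by
    letI := h.appTop.hom.toAlgebra
    haveI : Module.Flat Γ(U, ⊤) Γ(U', ⊤) := (HasRingHomProperty.iff_of_isAffine (P := @Flat)).mp
      (inferInstanceAs (Flat h))
    obtain ⟨π, hπ⟩ := exists_isEqFork (K.map WalkingParallelPairHom.left) (K.map WalkingParallelPairHom.right)
    haveI := preservesColimit_pullback h hπ (tensorEq_of_flat _ hπ.1 hπ.2)
    exact preservesColimit_of_iso_diagram _ (diagramIsoParallelPair K).symm

end BaseChange

end Groth.Agent.FEtLib
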