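import Mathlib
import Groth.Agent.FEtLib.Basic
import Groth.Agent.FEtLib.Affine

/-!
# Finite limits and colimits of finite étale covers

`FEt.Cat X` has finite limits and colimits; base change and fibre functors at geometric points
preserve them.
-/

set_option autoImplicit false
set_option linter.style.haveILetI false

noncomputable section

open AlgebraicGeometry CategoryTheory CategoryTheory.Limits

namespace Groth.Agent.FEtLib

universe u

variable {X X' U : Scheme.{u}}

theorem prop_le_affProp : FEt.prop.{u} ≤ affProp.{u} := fun _ _ _ h =>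
  haveI := h.1
  inferInstance

set_option backward.isDefEq.respectTransparency.types false in
theorem prop_of_openCover {T S : Scheme.{u}} (g : T ⟶ S) (𝒰 : S.OpenCover)
    (h : ∀ i, FEt.prop (𝒰.pullbackHom g i)) : FEt.prop g :=
  ⟨IsZariskiLocalAtTarget.of_openCover (P := @IsFinite) 𝒰 fun i => (h i).1,
    IsZariskiLocalAtTarget.of_openCover (P := @Etale) 𝒰 fun i => (h i).2⟩

instance : MorphismProperty.HasOfPostcompProperty FEt.prop.{u} FEt.prop.{u} where
  of_postcomp f g hg hfg :=
    haveI := hg.1; haveI := hg.2; haveI := hfg.1; haveI := hfg.2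
    ⟨IsFinite.of_comp f g, Etale.of_comp f g⟩

/-- covers as affine schemes over the base -/
abbrev toAff (X : Scheme.{u}) : FEt.Cat X ⥤ AffOver X :=
  MorphismProperty.Over.changeProp X prop_le_affProp le_rfl

/-- base change commutes with the inclusion -/
def toAffRestrict (h : X' ⟶ X) :
    FEt.restrict h ⋙ toAff X' ≅ toAff X ⋙ MorphismProperty.Over.pullback affProp ⊤ h :=
  NatIso.ofComponents (fun Y => MorphismProperty.Over.isoMk
    (show ((toAff X').obj ((FEt.restrict h).obj Y)).left ≅ pullback Y.hom h from Iso.refl _)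
    (Category.id_comp _)) fun φ => MorphismProperty.Over.Hom.ext ((Category.comp_id _).trans (Category.id_comp _).symm)

section Fibre

variable {Ω : Type u} [Field Ω]

/-- fibres of a base change -/
def fiberRestrictIso (h : X' ⟶ X) (ξ : Spec (CommRingCat.of Ω) ⟶ X') :
    FEt.restrict h ⋙ FEt.fiber ξ ≅ FEt.fiber (ξ ≫ h) :=
  NatIso.ofComponents
    (fun Y => Equiv.toIso
      { toFun := fun s => ⟨s.1 ≫ pullback.fst Y.hom h, by
          exact (Category.assoc _ _ _).trans ((congrArg (s.1 ≫ ·) pullback.condition).trans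
            ((Category.assoc _ _ _).symm.trans (congrArg (· ≫ h) s.2)))⟩
        invFun := fun s => ⟨pullback.lift s.1 ξ s.2, pullback.lift_snd _ _ _⟩
        left_inv := fun s => Subtype.ext (pullback.hom_ext (pullback.lift_fst _ _ _)
          ((pullback.lift_snd _ _ _).trans s.2.symm))
        right_inv := fun s => Subtype.ext (pullback.lift_fst _ _ _) })
    fun {Y Z} φ => ConcreteCategory.hom_ext _ _ fun s => Subtype.ext (by
      show (s.1 ≫ ((FEt.restrict h).map φ).left) ≫ pullback.fst Z.hom h =
        (s.1 ≫ pullback.fst Y.hom h) ≫ φ.left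
      exact (Category.assoc _ _ _).trans
        ((congrArg (s.1 ≫ ·) (restrict_map_left_fst h φ)).trans (Category.assoc _ _ _).symm))

end Fibre

section Coproducts

/-- a field-valued point of a coproduct factors through a summand -/
theorem exists_lift_coprod {Ω : Type u} [Field Ω] {A B : Scheme.{u}}
    (s : Spec (CommRingCat.of Ω) ⟶ A ⨿ B) :
    (∃ t, t ≫ coprod.inl = s) ∨ ∃ t, t ≫ coprod.inr = s := by
  rcases (isCompl_range_inl_inr A B).codisjoint.top_le (Set.mem_univ (pt s)) with h | h
  · exact .inl ⟨_, IsOpenImmersion.lift_fac coprod.inl s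
      (by rw [range_eq_singleton_pt]; exact Set.singleton_subset_iff.mpr h)⟩
  · exact .inr ⟨_, IsOpenImmersion.lift_fac coprod.inr s
      (by rw [range_eq_singleton_pt]; exact Set.singleton_subset_iff.mpr h)⟩

set_option backward.isDefEq.respectTransparency.types false in
/-- binary coproduct of covers -/
def coprodFan (Y Z : FEt.Cat X) : BinaryCofan Y Z :=
  haveI : Etale (coprod.desc Y.hom Z.hom) := by
    rw [IsZariskiLocalAtSource.iff_of_openCover (P := @Etale) (coprodOpenCover.{u, 0} Y.left Z.left)]
    rintro (_ | _)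
    · show Etale (coprod.inl ≫ coprod.desc Y.hom Z.hom)
      rw [coprod.inl_desc]; exact etale_hom Y
    · show Etale (coprod.inr ≫ coprod.desc Y.hom Z.hom)
      rw [coprod.inr_desc]; exact etale_hom Z
  BinaryCofan.mk (P := mk (coprod.desc Y.hom Z.hom))
    (homMk coprod.inl (coprod.inl_desc _ _)) (homMk coprod.inr (coprod.inr_desc _ _))

def isColimitCoprodFan (Y Z : FEt.Cat X) : IsColimit (coprodFan Y Z) :=
  BinaryCofan.isColimitMk
    (fun s => homMk (coprod.desc s.inl.left s.inr.left) (by
      apply coprod.hom_ext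
      · exact (coprod.inl_desc_assoc _ _ _).trans ((w s.inl).trans (coprod.inl_desc _ _).symm)
      · exact (coprod.inr_desc_assoc _ _ _).trans ((w s.inr).trans (coprod.inr_desc _ _).symm)))
    (fun _ => hom_ext (coprod.inl_desc _ _)) (fun _ => hom_ext (coprod.inr_desc _ _))
    (fun _ m h₁ h₂ => hom_ext (coprod.hom_ext
      ((congrArg (fun t => t.left) h₁).trans (coprod.inl_desc _ _).symm)
      ((congrArg (fun t => t.left) h₂).trans (coprod.inr_desc _ _).symm)))

instance hasBinaryCoproducts : HasBinaryCoproducts (FEt.Cat X) :=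
  haveI : ∀ {Y Z : FEt.Cat X}, HasColimit (pair Y Z) := fun {Y Z} =>
    ⟨⟨⟨_, isColimitCoprodFan Y Z⟩⟩⟩
  hasBinaryCoproducts_of_hasColimit_pair _

/-- the empty cover -/
def emptyObj (X : Scheme.{u}) : FEt.Cat X :=
  haveI : IsClosedImmersion (Scheme.emptyTo X) := inferInstance
  haveI : IsOpenImmersion (Scheme.emptyTo X) := inferInstance
  mk (Scheme.emptyTo X)

def isInitialEmptyObj (X : Scheme.{u}) : IsInitial (emptyObj X) :=
  IsInitial.ofUniqueHom (fun Y => homMk (Scheme.emptyTo Y.left) (Scheme.empty_ext _ _))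
    fun _ _ => hom_ext (Scheme.empty_ext _ _)

instance hasInitial : HasInitial (FEt.Cat X) := (isInitialEmptyObj X).hasInitial

instance hasFiniteCoproducts : HasFiniteCoproducts (FEt.Cat X) :=
  hasFiniteCoproducts_of_has_binary_and_initial

variable {Ω : Type u} [Field Ω] (ξ : Spec (CommRingCat.of Ω) ⟶ X)

theorem preservesBinaryCoproducts_fiber :
    PreservesColimitsOfShape (Discrete WalkingPair) (FEt.fiber ξ) where
  preservesColimit {K} := by
    haveI : ∀ Y Z : FEt.Cat X, PreservesColimit (pair Y Z) (FEt.fiber ξ) := fun Y Z => by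
      refine preservesColimit_of_preserves_colimit_cocone (isColimitCoprodFan Y Z) ?_
      refine (isColimitMapCoconeBinaryCofanEquiv (FEt.fiber ξ) _ _).symm ?_
      refine ((Types.binaryCofan_isColimit_iff _).mpr ⟨?_, ?_, ?_⟩).some
      · intro s t h
        exact Subtype.ext ((cancel_mono (coprod.inl : Y.left ⟶ _)).mp (congrArg Subtype.val h))
      · intro s t h
        exact Subtype.ext ((cancel_mono (coprod.inr : Z.left ⟶ _)).mp (congrArg Subtype.val h))
      · refine IsCompl.of_eq ?_ ?_
        · refine Set.eq_empty_iff_forall_notMem.mpr ?_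
          rintro _ ⟨⟨s, rfl⟩, ⟨t, ht⟩⟩
          have h1 := congr($(congrArg Subtype.val ht) (IsLocalRing.closedPoint Ω))
          exact Set.disjoint_left.mp (isCompl_range_inl_inr Y.left Z.left).disjoint
            ⟨_, rfl⟩ ⟨pt t.1, (Scheme.Hom.comp_apply _ _ _).symm.trans (h1.trans
              (Scheme.Hom.comp_apply _ _ _))⟩
        · refine Set.eq_univ_of_forall fun s => ?_
          rcases exists_lift_coprod (A := Y.left) (B := Z.left) s.1 with ⟨t, ht⟩ | ⟨t, ht⟩
          · refine .inl ⟨⟨t, ?_⟩, Subtype.ext ht⟩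
            exact ((congrArg (t ≫ ·) (coprod.inl_desc Y.hom Z.hom).symm).trans
              (Category.assoc _ _ _).symm).trans ((congrArg (· ≫ coprod.desc Y.hom Z.hom) ht).trans s.2)
          · refine .inr ⟨⟨t, ?_⟩, Subtype.ext ht⟩
            exact ((congrArg (t ≫ ·) (coprod.inr_desc Y.hom Z.hom).symm).trans
              (Category.assoc _ _ _).symm).trans ((congrArg (· ≫ coprod.desc Y.hom Z.hom) ht).trans s.2)
    exact preservesColimit_of_iso_diagram _ (diagramIsoPair K).symm

theorem preservesInitial_fiber :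
    PreservesColimitsOfShape (Discrete PEmpty.{1}) (FEt.fiber ξ) := by
  haveI : PreservesColimit (Functor.empty.{0} (FEt.Cat X)) (FEt.fiber ξ) := by
    refine preservesColimit_of_preserves_colimit_cocone (isInitialEmptyObj X) ?_
    refine (isColimitMapCoconeEmptyCoconeEquiv _ _).symm ?_
    haveI : IsEmpty (FEt.fiberObj ξ (emptyObj X)) :=
      ⟨fun s => IsEmpty.false (α := ↥(∅ : Scheme.{u})) (pt s.1)⟩
    exact IsInitial.ofUniqueHom (fun T => TypeCat.ofHom fun s => isEmptyElim (α := FEt.fiberObj ξ (emptyObj X)) s)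
      fun T m => ConcreteCategory.hom_ext _ _ fun s => isEmptyElim (α := FEt.fiberObj ξ (emptyObj X)) s
  exact preservesColimitsOfShape_pempty_of_preservesInitial _

theorem preservesFiniteCoproducts_fiber : PreservesFiniteCoproducts (FEt.fiber ξ) :=
  haveI := preservesBinaryCoproducts_fiber ξ
  haveI := preservesInitial_fiber ξ
  ⟨fun _ => PreservesFiniteCoproducts.of_preserves_binary_and_initial _ _⟩

end Coproducts

section Coequalizers

theorem prop_pullback (h : X' ⟶ X) (Y : FEt.Cat X) :
    FEt.prop ((MorphismProperty.Over.pullback affProp ⊤ h).obj ((toAff X).obj Y)).hom :=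
  ⟨inferInstanceAs (IsFinite (pullback.snd Y.hom h)), inferInstanceAs (Etale (pullback.snd Y.hom h))⟩

theorem prop_of_iso {W W' : AffOver X} (e : W ≅ W') (h : FEt.prop W'.hom) : FEt.prop W.hom := by
  let e' := (MorphismProperty.Over.forget affProp ⊤ X ⋙ Over.forget X).mapIso e
  haveI : IsIso e.hom.left := e'.isIso_hom
  rw [← AffOver.w e.hom]
  exact FEt.prop.comp_mem e.hom.left W'.hom ⟨inferInstance, inferInstance⟩ h

variable [IsAffine U]

theorem finite_gam {W : AffOver U} (h : FEt.prop W.hom) : Module.Finite Γ(U, ⊤) (Gam W) :=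
  haveI := h.1
  W.hom.finite_appTop

theorem etale_gam {W : AffOver U} (h : FEt.prop W.hom) : Algebra.Etale Γ(U, ⊤) (Gam W) :=
  haveI := h.2
  haveI := isAffine_left W
  RingHom.etale_algebraMap.mp ((HasRingHomProperty.iff_of_isAffine (P := @Etale)).mp h.2)

set_option backward.isDefEq.respectTransparency.types false in
theorem prop_ofAlg (E : Type u) [CommRing E] [Algebra Γ(U, ⊤) E] [Module.Finite Γ(U, ⊤) E]
    [Algebra.Etale Γ(U, ⊤) E] : FEt.prop (ofAlg (U := U) E).hom := by
  have h1 : IsFinite (Spec.map (CommRingCat.ofHom (algebraMap Γ(U, ⊤) E))) :=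
    (IsFinite.SpecMap_iff _).mpr (RingHom.finite_algebraMap.mpr inferInstance)
  have h2 : Etale (Spec.map (CommRingCat.ofHom (algebraMap Γ(U, ⊤) E))) :=
    (HasRingHomProperty.Spec_iff (P := @Etale)).mpr (RingHom.etale_algebraMap.mpr inferInstance)
  exact ⟨inferInstanceAs (IsFinite (Spec.map _ ≫ U.isoSpec.inv)),
    inferInstanceAs (Etale (Spec.map _ ≫ U.isoSpec.inv))⟩

theorem exists_isEqFork_of_prop {Y Z : AffOver U} (hY : FEt.prop Y.hom) (hZ : FEt.prop Z.hom)
    (f g : Y ⟶ Z) :
    ∃ (C : AffOver U) (π : Z ⟶ C), FEt.prop C.hom ∧ IsEqFork f g π := by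
  haveI := finite_gam hY; haveI := etale_gam hY; haveI := finite_gam hZ; haveI := etale_gam hZ
  obtain ⟨π, hπ⟩ := exists_isEqFork f g
  exact ⟨_, π, prop_ofAlg _, hπ⟩

omit [IsAffine U] in
theorem hasColimit_affine_of_isAffine (hU : IsAffine U) (K : WalkingParallelPair ⥤ AffOver U) :
    HasColimit K :=
  hasColimit_of_iso (diagramIsoParallelPair K)

theorem prop_colimit {K : WalkingParallelPair ⥤ AffOver U}
    (hK : ∀ j, FEt.prop (K.obj j).hom) {c : Cocone K} (hc : IsColimit c) : FEt.prop c.pt.hom := by
  obtain ⟨C, π, hC, hπ⟩ := exists_isEqFork_of_prop (hK .zero) (hK .one)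
    (K.map WalkingParallelPairHom.left) (K.map WalkingParallelPairHom.right)
  let e := hc.coconePointUniqueUpToIso
    ((IsColimit.precomposeHomEquiv (diagramIsoParallelPair K) _).symm (isColimitOfIsEqFork hπ))
  exact prop_of_iso e hC

omit [IsAffine U]

/-- gluing data for a coequalizer over all affine opens -/
def gluingData (D : WalkingParallelPair ⥤ AffOver X) :
    Scheme.Cover.ColimitGluingData D (Scheme.AffineZariskiSite.directedCover X) where
  cocone i :=
    haveI := hasColimit_affine_of_isAffine i.2 (D ⋙ MorphismProperty.Over.pullback affProp ⊤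
      ((Scheme.AffineZariskiSite.directedCover X).f i))
    colimit.cocone _
  isColimit i :=
    haveI := hasColimit_affine_of_isAffine i.2 (D ⋙ MorphismProperty.Over.pullback affProp ⊤
      ((Scheme.AffineZariskiSite.directedCover X).f i))
    colimit.isColimit _
  prop_trans {i j} _ :=
    haveI : IsAffine ((Scheme.AffineZariskiSite.directedCover X).X i) := i.2
    haveI : IsAffine ((Scheme.AffineZariskiSite.directedCover X).X j) := j.2
    isAffineHom_of_isAffine _

instance preservesCoequalizers_trans {i j : (Scheme.AffineZariskiSite.directedCover X).I₀}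
    (hij : i ⟶ j) : PreservesColimitsOfShape WalkingParallelPair
      (MorphismProperty.Over.pullback affProp ⊤ ((Scheme.AffineZariskiSite.directedCover X).trans hij)) :=
  haveI : IsAffine ((Scheme.AffineZariskiSite.directedCover X).X i) := i.2
  haveI : IsAffine ((Scheme.AffineZariskiSite.directedCover X).X j) := j.2
  preservesCoequalizers_of_flat _

theorem prop_glued (D : WalkingParallelPair ⥤ FEt.Cat X) :
    FEt.prop (gluingData (D ⋙ toAff X)).glued.hom := by
  refine prop_of_openCover _ (Scheme.AffineZariskiSite.directedCover X) fun i => ?_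
  haveI : IsAffine ((Scheme.AffineZariskiSite.directedCover X).X i) := i.2
  let e := (gluingData (D ⋙ toAff X)).pullbackGluedIso i
  have h := prop_colimit (fun j => prop_pullback _ (D.obj j)) ((gluingData (D ⋙ toAff X)).isColimit i)
  exact prop_of_iso e h

/-- coequalizer cocone of covers -/
def coeqCocone (D : WalkingParallelPair ⥤ FEt.Cat X) : Cocone D where
  pt := MorphismProperty.Over.mk _ (gluingData (D ⋙ toAff X)).glued.hom (prop_glued D)
  ι :=
    { app := fun j => homMk ((gluingData (D ⋙ toAff X)).gluedCocone.ι.app j).left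
        (AffOver.w ((gluingData (D ⋙ toAff X)).gluedCocone.ι.app j))
      naturality := fun i j f => hom_ext
        (congrArg (fun t => t.left) ((gluingData (D ⋙ toAff X)).gluedCocone.ι.naturality f)) }

def isColimitCoeqCocone (D : WalkingParallelPair ⥤ FEt.Cat X) : IsColimit (coeqCocone D) :=
  isColimitOfReflects (toAff X) (IsColimit.ofIsoColimit (gluingData (D ⋙ toAff X)).isColimitGluedCocone
    (Cocone.ext (MorphismProperty.Over.isoMk (Iso.refl _)) fun _ => MorphismProperty.Over.Hom.ext (Category.comp_id _)))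

instance hasCoequalizers : HasCoequalizers (FEt.Cat X) :=
  { has_colimit := fun D => HasColimit.mk ⟨_, isColimitCoeqCocone D⟩ }

instance hasFiniteColimits : HasFiniteColimits (FEt.Cat X) :=
  hasFiniteColimits_of_hasCoequalizers_and_finite_coproducts

end Coequalizers

end Groth.Agent.FEtLib
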