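import Mathlib
import Groth.Agent.FEtLib.Colimits

/-!
# Exactness of base change and of fibre functors

* fibres at geometric points preserve finite limits and finite colimits;
* base change preserves finite limits and finite colimits;
* over an algebraically closed field the fibre functor is an equivalence with finite sets.
-/

set_option autoImplicit false
set_option linter.style.haveILetI false

noncomputable section

open AlgebraicGeometry CategoryTheory CategoryTheory.Limits

namespace Groth.Agent.FEtLib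

universe u

variable {X X' U : Scheme.{u}}

section Finite

variable {Ω : Type u} [Field Ω] [IsAlgClosed Ω]

set_option backward.isDefEq.respectTransparency.types false in
instance finite_fiberObj (ξ : Spec (CommRingCat.of Ω) ⟶ X) (Y : FEt.Cat X) :
    Finite (FEt.fiberObj ξ Y) := by
  let q := pullback.snd Y.hom ξ
  haveI : IsFinite q := inferInstanceAs (IsFinite (pullback.snd Y.hom ξ))
  haveI := discreteTopology_of_finite q
  haveI : CompactSpace ↥(pullback Y.hom ξ) :=
    haveI : IsAffine (pullback Y.hom ξ) := isAffine_of_isAffineHom q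
    inferInstance
  haveI : Finite ↥(pullback Y.hom ξ) := finite_of_compact_of_discrete
  let e : FEt.fiberObj ξ Y ≃ {p : Spec (CommRingCat.of Ω) ⟶ pullback Y.hom ξ // p ≫ q = 𝟙 _} :=
    { toFun := fun s => ⟨pullback.lift s.1 (𝟙 _) (s.2.trans (Category.id_comp _).symm),
        pullback.lift_snd _ _ _⟩
      invFun := fun p => ⟨p.1 ≫ pullback.fst Y.hom ξ, (Category.assoc _ _ _).trans
        ((congrArg (p.1 ≫ ·) pullback.condition).trans ((Category.assoc _ _ _).symm.trans
          ((congrArg (· ≫ ξ) p.2).trans (Category.id_comp _))))⟩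
      left_inv := fun s => Subtype.ext (pullback.lift_fst _ _ _)
      right_inv := fun p => Subtype.ext (pullback.hom_ext (pullback.lift_fst _ _ _)
        ((pullback.lift_snd _ _ _).trans p.2.symm)) }
  exact Finite.of_injective (fun s => ((pointEquivClosedPoint q) (e s)).1)
    fun s t h => e.injective ((pointEquivClosedPoint q).injective (Subtype.ext h))

/-- the fibre functor with values in finite sets -/
def fiberFin (ξ : Spec (CommRingCat.of Ω) ⟶ X) : FEt.Cat X ⥤ FintypeCat.{u} :=
  ObjectProperty.lift _ (FEt.fiber ξ) fun Y => finite_fiberObj ξ Y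

/-- `fiberFin` is `FEt.fiber` -/
def fiberFinIso (ξ : Spec (CommRingCat.of Ω) ⟶ X) :
    fiberFin ξ ⋙ FintypeCat.incl ≅ FEt.fiber ξ :=
  ObjectProperty.liftCompιIso _ _ _

end Finite

section Field

variable {Ω : Type u} [Field Ω] [IsAlgClosed Ω]

local notation "S₀" => Spec (CommRingCat.of Ω)

/-- the trivial cover -/
abbrev oneObj (X : Scheme.{u}) : FEt.Cat X := mk (𝟙 X)

/-- a point of the fibre as a morphism from the trivial cover -/
abbrev sect {Y : FEt.Cat S₀} (s : FEt.fiberObj (𝟙 S₀) Y) : oneObj S₀ ⟶ Y := homMk s.1 s.2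

/-- the point of the trivial cover -/
abbrev onePt : FEt.fiberObj (𝟙 S₀) (oneObj S₀) := ⟨𝟙 _, Category.comp_id _⟩

theorem fiber_sect {Y : FEt.Cat S₀} (s : FEt.fiberObj (𝟙 S₀) Y) :
    (FEt.fiber (𝟙 S₀)).map (sect s) onePt = s :=
  Subtype.ext (Category.id_comp _)

theorem subsingleton_fiber_one : Subsingleton (FEt.fiberObj (𝟙 S₀) (oneObj S₀)) :=
  ⟨fun s t => Subtype.ext (((Category.comp_id _).symm.trans s.2).trans
    (((Category.comp_id _).symm.trans t.2).symm))⟩

theorem bijective_sigma (J : Type u) [Finite J] :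
    Function.Bijective fun j : J =>
      (FEt.fiber (𝟙 S₀)).map (Sigma.ι (fun _ : J => oneObj S₀) j) onePt := by
  haveI := preservesFiniteCoproducts_fiber (𝟙 S₀)
  haveI : PreservesColimitsOfShape (Discrete J) (FEt.fiber (𝟙 S₀)) := by
    obtain ⟨n, ⟨e⟩⟩ := Finite.exists_equiv_fin J
    exact preservesColimitsOfShape_of_equiv (Discrete.equivalence e.symm) _
  let F : J → Type u := fun _ => (FEt.fiber (𝟙 S₀)).obj (oneObj S₀)
  let e : (∐ F) ≅ (FEt.fiber (𝟙 S₀)).obj (∐ fun _ : J => oneObj S₀) :=
    (PreservesCoproduct.iso (FEt.fiber (𝟙 S₀)) (fun _ : J => oneObj S₀)).symm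
  have h : (fun j : J => (FEt.fiber (𝟙 S₀)).map (Sigma.ι (fun _ : J => oneObj S₀) j) onePt) =
      ((Types.coproductIso F).symm ≪≫ e).toEquiv ∘
        (fun j => (⟨j, onePt⟩ : Σ j, F j)) := by
    funext j
    have h1 : (Types.coproductIso F).inv ⟨j, onePt⟩ = Sigma.ι F j onePt :=
      congr($(show Sigma.ι F j = (↾fun x => ⟨j, x⟩) ≫ (Types.coproductIso F).inv by
        rw [← Types.coproductIso_ι_comp_hom, Category.assoc, Iso.hom_inv_id, Category.comp_id]) onePt).symm
    have h2 : e.hom (Sigma.ι F j onePt) =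
        (FEt.fiber (𝟙 S₀)).map (Sigma.ι (fun _ : J => oneObj S₀) j) onePt :=
      congr($(ι_comp_sigmaComparison (FEt.fiber (𝟙 S₀)) (fun _ : J => oneObj S₀) j) onePt)
    exact (h2.symm.trans (congrArg e.hom h1.symm))
  rw [h]
  refine (Equiv.bijective _).comp ⟨fun i j hij => congrArg Sigma.fst hij, fun ⟨j, x⟩ => ⟨j, ?_⟩⟩
  haveI := subsingleton_fiber_one (Ω := Ω)
  exact congrArg _ (Subsingleton.elim _ _)

/-- the canonical map from the constant cover on the fibre -/
abbrev ev (Y : FEt.Cat S₀) : (∐ fun _ : FEt.fiberObj (𝟙 S₀) Y => oneObj S₀) ⟶ Y :=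
  Sigma.desc fun s => sect s

theorem fiber_ev (Y : FEt.Cat S₀) (s : FEt.fiberObj (𝟙 S₀) Y) :
    (FEt.fiber (𝟙 S₀)).map (ev Y)
      ((FEt.fiber (𝟙 S₀)).map (Sigma.ι (fun _ : FEt.fiberObj (𝟙 S₀) Y => oneObj S₀) s) onePt) = s := by
  have h : Sigma.ι (fun _ : FEt.fiberObj (𝟙 S₀) Y => oneObj S₀) s ≫ ev Y = sect s := Sigma.ι_desc _ _
  refine Eq.trans ?_ (fiber_sect s)
  rw [← h, Functor.map_comp]
  rfl

theorem isIso_ev (Y : FEt.Cat S₀) : IsIso (ev Y) := by
  refine isIso_of_fiber_connected (𝟙 S₀) (ev Y) ?_
  have hb := bijective_sigma (Ω := Ω) (FEt.fiberObj (𝟙 S₀) Y)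
  refine (hb.of_comp_iff _).mp ?_
  exact (congrArg Function.Bijective (funext (fiber_ev Y))).mpr Function.bijective_id

instance isEquivalence_fiberFin_id : (fiberFin (𝟙 S₀)).IsEquivalence where
  faithful := ⟨fun {Y Z} φ ψ h => eq_of_fiber (𝟙 S₀) φ ψ fun s =>
    congr($(congrArg (FintypeCat.incl.map) h) s)⟩
  full := ⟨fun {Y Z} a => by
    haveI := isIso_ev Y
    let a' : FEt.fiberObj (𝟙 S₀) Y → FEt.fiberObj (𝟙 S₀) Z := fun s => FintypeCat.incl.map a s
    refine ⟨inv (ev Y) ≫ Sigma.desc fun s => sect (a' s), ?_⟩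
    refine FintypeCat.incl.map_injective (ConcreteCategory.hom_ext _ _ fun s => ?_)
    obtain ⟨p, hp, rfl⟩ : ∃ p, (FEt.fiber (𝟙 S₀)).map (Sigma.ι (fun _ : FEt.fiberObj (𝟙 S₀) Y => oneObj S₀) s) onePt = p ∧
        (FEt.fiber (𝟙 S₀)).map (ev Y) p = s := ⟨_, rfl, fiber_ev Y s⟩
    show (FEt.fiber (𝟙 S₀)).map (inv (ev Y) ≫ Sigma.desc fun s => sect (a' s)) ((FEt.fiber (𝟙 S₀)).map (ev Y) p) = a' _
    refine (congr($((FEt.fiber (𝟙 S₀)).map_comp (ev Y) (inv (ev Y) ≫ Sigma.desc fun s => sect (a' s))) p)).symm.trans ?_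
    rw [IsIso.hom_inv_id_assoc]
    generalize hgen : (FEt.fiber (𝟙 S₀)).map (ev Y) p = q at hp ⊢
    subst hp
    refine (congr($((FEt.fiber (𝟙 S₀)).map_comp (Sigma.ι (fun _ : FEt.fiberObj (𝟙 S₀) Y => oneObj S₀) q)
      (Sigma.desc fun s => sect (a' s))) onePt)).symm.trans ?_
    exact (congr((FEt.fiber (𝟙 S₀)).map $(Sigma.ι_desc (fun s => sect (a' s)) q) onePt)).trans (fiber_sect _)⟩
  essSurj := ⟨fun S => ⟨∐ fun _ : S => oneObj S₀, ⟨(FintypeCat.incl).preimageIso
    (Equiv.ofBijective _ (bijective_sigma (Ω := Ω) S)).toIso.symm⟩⟩⟩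

theorem preservesFiniteColimits_fiber_id : PreservesFiniteColimits (FEt.fiber (𝟙 S₀)) :=
  ⟨fun _ _ _ => preservesColimitsOfShape_of_natIso (fiberFinIso (𝟙 S₀))⟩

end Field

section Restrict

/-- the coequalizer cocone in affine schemes over the base -/
def toAffCoeqIso (D : WalkingParallelPair ⥤ FEt.Cat X) :
    (gluingData (D ⋙ toAff X)).gluedCocone ≅ (toAff X).mapCocone (coeqCocone D) :=
  Cocone.ext (MorphismProperty.Over.isoMk (Iso.refl _))
    fun _ => MorphismProperty.Over.Hom.ext (Category.comp_id _)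

/-- charts of the glued coequalizer are coequalizers -/
def isColimitGluedChart (D : WalkingParallelPair ⥤ AffOver X)
    (i : (Scheme.AffineZariskiSite.directedCover X).I₀) :
    IsColimit ((MorphismProperty.Over.pullback affProp ⊤
      ((Scheme.AffineZariskiSite.directedCover X).f i)).mapCocone (gluingData D).gluedCocone) :=
  IsColimit.ofIsoColimit ((gluingData D).isColimit i) (Cocone.ext ((gluingData D).pullbackGluedIso i).symm
    fun a => MorphismProperty.Over.Hom.ext (by
      refine pullback.hom_ext ?_ ?_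
      · refine ((Category.assoc _ _ _).trans ?_).trans (pullback.lift_fst _ _ _).symm
        refine Eq.trans ?_ ((gluingData D).fst_gluedCocone_ι a i).symm
        exact congrArg (fun t => _ ≫ t) ((gluingData D).pullbackGluedIso_inv_fst i)
      · refine ((Category.assoc _ _ _).trans ?_).trans (pullback.lift_snd _ _ _).symm
        refine Eq.trans ?_ (AffOver.w (((gluingData D).cocone i).ι.app a))
        exact congrArg (fun t => _ ≫ t) ((gluingData D).pullbackGluedIso_inv_snd i)))

theorem preservesCoequalizers_restrict_chart (i : (Scheme.AffineZariskiSite.directedCover X).I₀) :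
    PreservesColimitsOfShape WalkingParallelPair
      (FEt.restrict ((Scheme.AffineZariskiSite.directedCover X).f i)) where
  preservesColimit {D} := preservesColimit_of_preserves_colimit_cocone (isColimitCoeqCocone D) <| by
    refine isColimitOfReflects (toAff _) ?_
    refine IsColimit.ofIsoColimit ?_ (Functor.mapCoconeMapCocone (H := FEt.restrict ((Scheme.AffineZariskiSite.directedCover X).f i)) (H' := toAff ((Scheme.AffineZariskiSite.directedCover X).X i)) (coeqCocone D)).symm
    refine IsColimit.mapCoconeEquiv (toAffRestrict _).symm ?_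
    exact IsColimit.ofIsoColimit (isColimitGluedChart (D ⋙ toAff X) i)
      ((Cocone.functoriality _ _).mapIso (toAffCoeqIso D) ≪≫ (Functor.mapCoconeMapCocone _))

theorem preservesCoequalizers_restrict_affine [IsAffine U] [IsAffine X] (h : U ⟶ X) :
    PreservesColimitsOfShape WalkingParallelPair (FEt.restrict h) where
  preservesColimit {D} := by
    letI := h.appTop.hom.toAlgebra
    let f := D.map WalkingParallelPairHom.left
    let g := D.map WalkingParallelPairHom.right
    haveI : PreservesColimit (parallelPair f g) (FEt.restrict h) := by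
      obtain ⟨C, π, hC, hπ⟩ := exists_isEqFork_of_prop (D.obj .zero).prop (D.obj .one).prop
        ((toAff X).map f) ((toAff X).map g)
      let π' : D.obj .one ⟶ MorphismProperty.Over.mk _ C.hom hC := homMk π.left (AffOver.w π)
      have hw : f ≫ π' = g ≫ π' := hom_ext (congrArg (fun t => t.left) hπ.condition)
      have hπ' : IsEqFork ((toAff X).map f) ((toAff X).map g) ((toAff X).map π') := hπ
      have hc : IsColimit (Cofork.ofπ π' hw) := isColimitOfReflects (toAff X)
        ((isColimitMapCoconeCoforkEquiv _ hw).symm (isColimitOfIsEqFork hπ'))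
      refine preservesColimit_of_preserves_colimit_cocone hc ?_
      refine isColimitOfReflects (toAff U) ?_
      refine IsColimit.ofIsoColimit ?_ (Functor.mapCoconeMapCocone (H := FEt.restrict h) (H' := toAff U) (Cofork.ofπ π' hw)).symm
      refine IsColimit.mapCoconeEquiv (toAffRestrict h).symm ?_
      refine IsColimit.ofIsoColimit ?_ (Functor.mapCoconeMapCocone (H := toAff X) (H' := MorphismProperty.Over.pullback affProp ⊤ h) (Cofork.ofπ π' hw))
      haveI : PreservesColimit (parallelPair ((toAff X).map f) ((toAff X).map g))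
          (MorphismProperty.Over.pullback affProp ⊤ h) := by
        haveI := finite_gam (W := (toAff X).obj (D.obj .zero)) (D.obj .zero).prop
        haveI := etale_gam (W := (toAff X).obj (D.obj .zero)) (D.obj .zero).prop
        haveI := finite_gam (W := (toAff X).obj (D.obj .one)) (D.obj .one).prop
        haveI := etale_gam (W := (toAff X).obj (D.obj .one)) (D.obj .one).prop
        exact preservesColimit_pullback h hπ' (tensorEq_of_etale _ hπ'.1 hπ'.2)
      haveI : PreservesColimit (parallelPair f g ⋙ toAff X)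
          (MorphismProperty.Over.pullback affProp ⊤ h) :=
        preservesColimit_of_iso_diagram _ (K₁ := parallelPair ((toAff X).map f) ((toAff X).map g))
          (diagramIsoParallelPair (parallelPair f g ⋙ toAff X)).symm
      exact isColimitOfPreserves _ ((isColimitMapCoconeCoforkEquiv _ hw).symm (isColimitOfIsEqFork hπ'))
    exact preservesColimit_of_iso_diagram _ (diagramIsoParallelPair D).symm

variable {Ω : Type u} [Field Ω] [IsAlgClosed Ω]

theorem preservesCoequalizers_fiber (ξ : Spec (CommRingCat.of Ω) ⟶ X) :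
    PreservesColimitsOfShape WalkingParallelPair (FEt.fiber ξ) := by
  obtain ⟨i, hi⟩ : ∃ i, Set.range ξ ⊆ Set.range ((Scheme.AffineZariskiSite.directedCover X).f i) := by
    obtain ⟨i, x, hx⟩ := (Scheme.AffineZariskiSite.directedCover X).exists_eq (pt ξ)
    exact ⟨i, by rw [range_eq_singleton_pt]; exact Set.singleton_subset_iff.mpr ⟨x, hx⟩⟩
  let j := (Scheme.AffineZariskiSite.directedCover X).f i
  haveI : IsAffine ((Scheme.AffineZariskiSite.directedCover X).X i) := i.2
  let ξ' := IsOpenImmersion.lift j ξ hi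
  haveI := preservesCoequalizers_restrict_chart i
  haveI := preservesCoequalizers_restrict_affine ξ'
  haveI := preservesFiniteColimits_fiber_id (Ω := Ω)
  haveI : PreservesColimitsOfShape WalkingParallelPair (FEt.fiber ξ') := by
    have e : FEt.restrict ξ' ⋙ FEt.fiber (𝟙 _) ≅ FEt.fiber ξ' :=
      fiberRestrictIso ξ' (𝟙 _) ≪≫ eqToIso (by rw [Category.id_comp])
    exact preservesColimitsOfShape_of_natIso e
  exact preservesColimitsOfShape_of_natIso
    (fiberRestrictIso j ξ' ≪≫ eqToIso (by rw [IsOpenImmersion.lift_fac]))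

theorem preservesFiniteColimits_fiber (ξ : Spec (CommRingCat.of Ω) ⟶ X) :
    PreservesFiniteColimits (FEt.fiber ξ) :=
  haveI := preservesCoequalizers_fiber ξ
  haveI := preservesFiniteCoproducts_fiber ξ
  preservesFiniteColimits_of_preservesCoequalizers_and_finiteCoproducts _

theorem preservesFiniteColimits_restrict (h : X' ⟶ X) :
    PreservesFiniteColimits (FEt.restrict h) :=
  ⟨fun J _ _ => ⟨fun {K} => by
    haveI : IsIso (colimit.post K (FEt.restrict h)) := by
      refine isIso_of_fiber_all _ fun Ω _ _ ξ => ?_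
      haveI := preservesFiniteColimits_fiber ξ
      haveI := preservesFiniteColimits_fiber (ξ ≫ h)
      haveI : PreservesColimit K (FEt.restrict h ⋙ FEt.fiber ξ) :=
        preservesColimit_of_natIso K (fiberRestrictIso h ξ).symm
      haveI h1 : IsIso (colimit.post K (FEt.restrict h ⋙ FEt.fiber ξ)) := inferInstance
      haveI h2 : IsIso (colimit.post (K ⋙ FEt.restrict h) (FEt.fiber ξ)) := inferInstance
      haveI : IsIso (colimit.post (K ⋙ FEt.restrict h) (FEt.fiber ξ) ≫
          (FEt.fiber ξ).map (colimit.post K (FEt.restrict h))) := by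
        rw [colimit.post_post]; exact h1
      haveI := IsIso.of_isIso_comp_left (colimit.post (K ⋙ FEt.restrict h) (FEt.fiber ξ))
        ((FEt.fiber ξ).map (colimit.post K (FEt.restrict h)))
      exact (CategoryTheory.isIso_iff_bijective _).mp this
    exact preservesColimit_of_isIso_post _ _⟩⟩

end Restrict

end Groth.Agent.FEtLib
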