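import Mathlib
import Groth.Agent.FEtLib.Exact

/-!
# Finite étale covers of a connected scheme form a Galois category
-/

set_option autoImplicit false
set_option linter.style.haveILetI false

noncomputable section

open AlgebraicGeometry CategoryTheory CategoryTheory.Limits

namespace Groth.Agent.FEtLib

universe u

variable {X : Scheme.{u}}

theorem exists_lift_of_mem {Ω : Type u} [Field Ω] {A B : Scheme.{u}} (f : A ⟶ B) [IsOpenImmersion f]
    (s : Spec (CommRingCat.of Ω) ⟶ B) (h : pt s ∈ Set.range f) : ∃ t, t ≫ f = s :=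
  ⟨_, IsOpenImmersion.lift_fac f s
    (by rw [range_eq_singleton_pt]; exact Set.singleton_subset_iff.mpr h)⟩

theorem mono_left {Y Z : FEt.Cat X} (i : Y ⟶ Z) [Mono i] : Mono i.left :=
  inferInstanceAs (Mono ((MorphismProperty.Over.forget FEt.prop ⊤ X ⋙ Over.forget X).map i))

theorem monoInducesIsoOnDirectSummand {Y Z : FEt.Cat X} (i : Y ⟶ Z) [Mono i] :
    ∃ (W : FEt.Cat X) (j : W ⟶ Z), Nonempty (IsColimit (BinaryCofan.mk i j)) := by
  haveI := mono_left i
  haveI : IsOpenImmersion i.left := IsOpenImmersion.of_flat_of_mono i.left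
  haveI : IsClosedImmersion i.left := (IsClosedImmersion.iff_isFinite_and_mono (f := i.left)).mpr ⟨inferInstance, inferInstance⟩
  let V : Z.left.Opens := ⟨(Set.range i.left)ᶜ, (isClopen_range i.left).compl.2⟩
  haveI : IsOpenImmersion V.ι := V.instIsOpenImmersionι
  haveI : IsClosedImmersion V.ι :=
    IsClosedImmersion.of_isPreimmersion _ (by rw [Scheme.Opens.range_ι]; exact (isClopen_range i.left).compl.1)
  let W : FEt.Cat X := mk (V.ι ≫ Z.hom)
  let j : W ⟶ Z := homMk V.ι rfl
  refine ⟨W, j, ?_⟩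
  let θ : (coprodFan Y W).pt ⟶ Z := (isColimitCoprodFan Y W).desc (BinaryCofan.mk i j)
  haveI : IsIso θ := by
    refine isIso_of_fiber_all θ fun Ω _ _ ξ => ?_
    haveI := preservesBinaryCoproducts_fiber ξ
    have hc := isColimitOfPreserves (FEt.fiber ξ) (isColimitCoprodFan Y W)
    have h1 := (isColimitCoprodFan Y W).fac (BinaryCofan.mk i j) ⟨WalkingPair.left⟩
    have h2 := (isColimitCoprodFan Y W).fac (BinaryCofan.mk i j) ⟨WalkingPair.right⟩
    have k1 : ∀ t : FEt.fiberObj ξ Y,
        ((FEt.fiber ξ).map θ ((FEt.fiber ξ).map (coprodFan Y W).inl t)).1 = t.1 ≫ i.left :=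
      fun t => (congrArg Subtype.val (congr($((FEt.fiber ξ).map_comp (coprodFan Y W).inl θ) t))).symm.trans
        (congrArg Subtype.val (congr((FEt.fiber ξ).map $h1 t)))
    have k2 : ∀ t : FEt.fiberObj ξ W,
        ((FEt.fiber ξ).map θ ((FEt.fiber ξ).map (coprodFan Y W).inr t)).1 = t.1 ≫ V.ι :=
      fun t => (congrArg Subtype.val (congr($((FEt.fiber ξ).map_comp (coprodFan Y W).inr θ) t))).symm.trans
        (congrArg Subtype.val (congr((FEt.fiber ξ).map $h2 t)))
    constructor
    · intro p q hpq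
      obtain ⟨⟨⟨⟩⟩, p, rfl⟩ := Types.jointly_surjective _ hc p <;>
        obtain ⟨⟨⟨⟩⟩, q, rfl⟩ := Types.jointly_surjective _ hc q
      · have e : p.1 ≫ i.left = q.1 ≫ i.left :=
          (((k1 p)).symm.trans (congrArg Subtype.val hpq)).trans
            ((k1 q))
        exact congrArg _ (Subtype.ext ((cancel_mono i.left).mp e))
      · exfalso
        have e : p.1 ≫ i.left = q.1 ≫ V.ι :=
          (((k1 p)).symm.trans (congrArg Subtype.val hpq)).trans
            ((k2 q))
        have e' := congr($e (IsLocalRing.closedPoint Ω))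
        exact (pt q.1).2 ⟨pt p.1, e'⟩
      · exfalso
        have e : p.1 ≫ V.ι = q.1 ≫ i.left :=
          (((k2 p)).symm.trans (congrArg Subtype.val hpq)).trans
            ((k1 q))
        have e' := congr($e (IsLocalRing.closedPoint Ω))
        exact (pt p.1).2 ⟨pt q.1, e'.symm⟩
      · have e : p.1 ≫ V.ι = q.1 ≫ V.ι :=
          (((k2 p)).symm.trans (congrArg Subtype.val hpq)).trans
            ((k2 q))
        exact congrArg _ (Subtype.ext ((cancel_mono V.ι).mp e))
    · intro s
      by_cases hs : pt s.1 ∈ Set.range i.left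
      · have hr : Set.range s.1 ⊆ Set.range i.left := by
          rw [range_eq_singleton_pt]; exact Set.singleton_subset_iff.mpr hs
        let t : FEt.fiberObj ξ Y := ⟨IsOpenImmersion.lift i.left s.1 hr,
          ((congrArg (IsOpenImmersion.lift i.left s.1 hr ≫ ·) (w i).symm).trans (Category.assoc _ _ _).symm).trans
            ((congrArg (· ≫ Z.hom) (IsOpenImmersion.lift_fac _ _ hr)).trans s.2)⟩
        exact ⟨(FEt.fiber ξ).map (coprodFan Y W).inl t, Subtype.ext
          ((k1 t).trans (IsOpenImmersion.lift_fac _ _ hr))⟩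
      · obtain ⟨t', ht'⟩ := exists_lift_of_mem (A := V.toScheme) (B := Z.left) V.ι s.1
          (by rw [Scheme.Opens.range_ι]; exact hs)
        let t : FEt.fiberObj ξ W := ⟨t',
          (Category.assoc _ _ _).symm.trans ((congrArg (· ≫ Z.hom) ht').trans s.2)⟩
        exact ⟨(FEt.fiber ξ).map (coprodFan Y W).inr t, Subtype.ext ((k2 t).trans ht')⟩
  exact ⟨IsColimit.ofPointIso (t := BinaryCofan.mk i j) (isColimitCoprodFan Y W) (i := inferInstanceAs (IsIso θ))⟩

instance preGaloisCategory : PreGaloisCategory (FEt.Cat X) where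
  hasQuotientsByFiniteGroups G _ _ := by
    obtain ⟨G', hg, hf, ⟨e⟩⟩ := Finite.exists_type_univ_nonempty_mulEquiv.{u, 0} G
    exact Limits.hasColimitsOfShape_of_equivalence e.toSingleObjEquiv.symm
  monoInducesIsoOnDirectSummand i _ := monoInducesIsoOnDirectSummand i

variable {Ω : Type u} [Field Ω] [IsAlgClosed Ω]

/-- the fibre functor as a limit preserving functor -/
theorem preservesFiniteLimits_fiber (ξ : Spec (CommRingCat.of Ω) ⟶ X) :
    PreservesFiniteLimits (FEt.fiber ξ) := by
  haveI : PreservesFiniteLimits (FEt.fiber (𝟙 (Spec (CommRingCat.of Ω)))) :=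
    ⟨fun _ _ _ => preservesLimitsOfShape_of_natIso (fiberFinIso _)⟩
  haveI : PreservesFiniteLimits (FEt.restrict ξ) :=
    inferInstanceAs (PreservesFiniteLimits (MorphismProperty.Over.pullback FEt.prop ⊤ ξ))
  haveI : PreservesFiniteLimits (FEt.restrict ξ ⋙ FEt.fiber (𝟙 _)) := comp_preservesFiniteLimits _ _
  exact ⟨fun _ _ _ => preservesLimitsOfShape_of_natIso
    (fiberRestrictIso ξ (𝟙 _) ≪≫ eqToIso (by rw [Category.id_comp]))⟩

theorem preservesFiniteColimits_fiberFin (ξ : Spec (CommRingCat.of Ω) ⟶ X) :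
    PreservesFiniteColimits (fiberFin ξ) :=
  ⟨fun J _ _ => by
    haveI := preservesFiniteColimits_fiber ξ
    haveI : PreservesColimitsOfShape J (fiberFin ξ ⋙ FintypeCat.incl) :=
      preservesColimitsOfShape_of_natIso (fiberFinIso ξ).symm
    exact preservesColimitsOfShape_of_reflects_of_preserves (fiberFin ξ) FintypeCat.incl⟩

theorem preservesFiniteLimits_fiberFin (ξ : Spec (CommRingCat.of Ω) ⟶ X) :
    PreservesFiniteLimits (fiberFin ξ) :=
  ⟨fun J _ _ => by
    haveI := preservesFiniteLimits_fiber ξ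
    haveI : PreservesLimitsOfShape J (fiberFin ξ ⋙ FintypeCat.incl) :=
      preservesLimitsOfShape_of_natIso (fiberFinIso ξ).symm
    exact preservesLimitsOfShape_of_reflects_of_preserves (fiberFin ξ) FintypeCat.incl⟩

theorem reflectsIsomorphisms_fiberFin [PreconnectedSpace X] (ξ : Spec (CommRingCat.of Ω) ⟶ X) :
    (fiberFin ξ).ReflectsIsomorphisms :=
  ⟨fun {Y Z} φ _ => isIso_of_fiber_connected ξ φ
    ((CategoryTheory.isIso_iff_bijective _).mp
      (inferInstanceAs (IsIso (FintypeCat.incl.map ((fiberFin ξ).map φ)))))⟩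

instance fiberFunctor [PreconnectedSpace X] (ξ : Spec (CommRingCat.of Ω) ⟶ X) :
    PreGaloisCategory.FiberFunctor (fiberFin ξ) := by
  haveI := preservesFiniteColimits_fiberFin ξ
  haveI := preservesFiniteLimits_fiberFin ξ
  haveI := reflectsIsomorphisms_fiberFin ξ
  refine { preservesQuotientsByFiniteGroups := ?_ }
  intro G _ _
  obtain ⟨G', hg, hf, ⟨e⟩⟩ := Finite.exists_type_univ_nonempty_mulEquiv.{u, 0} G
  exact Limits.preservesColimitsOfShape_of_equiv e.toSingleObjEquiv.symm _

theorem galoisCategory [ConnectedSpace X] : GaloisCategory (FEt.Cat X) := by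
  obtain ⟨Ω, _, _, ξ, -⟩ := exists_geomPoint (Classical.arbitrary X)
  exact { hasFiberFunctor := ⟨fiberFin ξ, ⟨inferInstance⟩⟩ }

end Groth.Agent.FEtLib
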