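import Mathlib
import Groth.Agent.FEtLib.Basic
import Groth.Agent.FEtLib.Colimits
import Groth.Agent.FEtLib.Galois

/-!
# A criterion for full faithfulness of restriction of finite étale covers

`full_faithful_restrict`: if the image meets every nonempty clopen and clopen subsets of base changed
covers descend, then restriction is fully faithful.
-/

set_option autoImplicit false
set_option linter.style.haveILetI false

noncomputable section

open AlgebraicGeometry CategoryTheory CategoryTheory.Limits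

namespace Groth.Agent.FEtLib

universe u

variable {X X' : Scheme.{u}}

/-- clopens of base changed covers descend -/
def ClopenDescend (f : X' ⟶ X) : Prop :=
  ∀ (Z : FEt.Cat X) (W : Set ↥(pullback Z.hom f)), IsClopen W →
    ∃ W' : Set Z.left, IsClopen W' ∧ pullback.fst Z.hom f ⁻¹' W' = W

/-- isomorphisms are reflected when the image meets every nonempty clopen -/
theorem isIso_of_isIso_restrict (f : X' ⟶ X)
    (hf : ∀ W : Set X, IsClopen W → W.Nonempty → (W ∩ Set.range f).Nonempty)
    {Y Z : FEt.Cat X} (φ : Y ⟶ Z) [IsIso ((FEt.restrict f).map φ)] : IsIso φ := by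
  refine isIso_of_fiber φ fun W hW hne => ?_
  obtain ⟨_, hxW, x', rfl⟩ := hf W hW hne
  obtain ⟨Ω, i, i', ξ, hξ⟩ := exists_geomPoint x'
  refine ⟨Ω, i, i', ξ ≫ f, ?_, ?_⟩
  · exact Set.mem_of_eq_of_mem ((Scheme.Hom.comp_apply ξ f _).trans (congrArg f hξ)) hxW
  · haveI : IsIso ((FEt.fiber (ξ ≫ f)).map φ) :=
      (NatIso.isIso_map_iff (fiberRestrictIso f ξ) φ).mp
        (inferInstanceAs (IsIso ((FEt.fiber ξ).map ((FEt.restrict f).map φ))))
    exact (isIso_iff_bijective _).mp this

theorem full_restrict (f : X' ⟶ X)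
    (hf : ∀ W : Set X, IsClopen W → W.Nonempty → (W ∩ Set.range f).Nonempty)
    (hd : ClopenDescend f) : (FEt.restrict f).Full := by
  refine ⟨fun {Y Z} ψ => ?_⟩
  haveI : IsFinite (pullback.fst Y.hom Z.hom ≫ Y.hom) := inferInstance
  haveI : Etale (pullback.fst Y.hom Z.hom ≫ Y.hom) := inferInstance
  let P : FEt.Cat X := mk (pullback.fst Y.hom Z.hom ≫ Y.hom)
  let p₁ : P ⟶ Y := homMk (pullback.fst Y.hom Z.hom)
  let p₂ : P ⟶ Z := homMk (pullback.snd Y.hom Z.hom) pullback.condition.symm
  let R := FEt.restrict f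
  have hψ : ψ.left ≫ pullback.snd Z.hom f = pullback.snd Y.hom f := w ψ
  have hc : pullback.fst Y.hom f ≫ Y.hom = (ψ.left ≫ pullback.fst Z.hom f) ≫ Z.hom := by
    refine (pullback.condition.trans (congrArg (· ≫ f) hψ.symm)).trans ?_
    exact (Category.assoc _ _ _).trans ((congrArg (ψ.left ≫ ·) pullback.condition.symm).trans
      (Category.assoc _ _ _).symm)
  let l : (R.obj Y).left ⟶ P.left := pullback.lift (pullback.fst Y.hom f) (ψ.left ≫ pullback.fst Z.hom f) hc
  have hl : l ≫ P.hom = pullback.snd Y.hom f ≫ f :=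
    (Category.assoc _ _ _).symm.trans ((congrArg (· ≫ Y.hom) (pullback.lift_fst _ _ _)).trans
      pullback.condition)
  let g : R.obj Y ⟶ R.obj P := homMk (pullback.lift l (pullback.snd Y.hom f) hl) (pullback.lift_snd _ _ _)
  have hg1 : g ≫ R.map p₁ = 𝟙 _ := hom_ext (pullback.hom_ext
    ((Category.assoc _ _ _).trans ((congrArg (g.left ≫ ·) (restrict_map_left_fst f p₁)).trans
      ((Category.assoc _ _ _).symm.trans ((congrArg (· ≫ pullback.fst Y.hom Z.hom)
        (pullback.lift_fst _ _ _)).trans ((pullback.lift_fst _ _ _).trans (Category.id_comp _).symm)))))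
    ((Category.assoc _ _ _).trans ((congrArg (g.left ≫ ·) (w (R.map p₁))).trans
      ((pullback.lift_snd _ _ _).trans (Category.id_comp _).symm))))
  have hg2 : g ≫ R.map p₂ = ψ := hom_ext (pullback.hom_ext
    ((Category.assoc _ _ _).trans ((congrArg (g.left ≫ ·) (restrict_map_left_fst f p₂)).trans
      ((Category.assoc _ _ _).symm.trans ((congrArg (· ≫ pullback.snd Y.hom Z.hom)
        (pullback.lift_fst _ _ _)).trans (pullback.lift_snd _ _ _)))))
    ((Category.assoc _ _ _).trans ((congrArg (g.left ≫ ·) (w (R.map p₂))).trans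
      ((pullback.lift_snd _ _ _).trans hψ.symm))))
  haveI : Mono g.left := by
    haveI : IsSplitMono g.left := IsSplitMono.mk' ⟨(R.map p₁).left, congrArg (fun m => m.left) hg1⟩
    infer_instance
  haveI : IsOpenImmersion g.left := IsOpenImmersion.of_flat_of_mono g.left
  haveI : IsClosedImmersion g.left :=
    (IsClosedImmersion.iff_isFinite_and_mono (f := g.left)).mpr ⟨inferInstance, inferInstance⟩
  obtain ⟨W', hW', hpre⟩ := hd P (Set.range g.left) (isClopen_range g.left)
  let U : P.left.Opens := ⟨W', hW'.2⟩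
  haveI : IsOpenImmersion U.ι := U.instIsOpenImmersionι
  haveI : IsClosedImmersion U.ι :=
    IsClosedImmersion.of_isPreimmersion _ (by rw [Scheme.Opens.range_ι]; exact hW'.1)
  let V : FEt.Cat X := mk (U.ι ≫ P.hom)
  let j : V ⟶ P := homMk U.ι rfl
  have hsq : IsPullback (R.map j).left (pullback.fst V.hom f) (pullback.fst P.hom f) j.left := by
    refine IsPullback.of_right ?_ (restrict_map_left_fst f j) (IsPullback.of_hasPullback P.hom f).flip
    rw [show (R.map j).left ≫ pullback.snd P.hom f = pullback.snd V.hom f from w (R.map j), w j]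
    exact (IsPullback.of_hasPullback V.hom f).flip
  haveI : IsOpenImmersion (R.map j).left :=
    MorphismProperty.of_isPullback (P := @IsOpenImmersion) hsq.flip U.instIsOpenImmersionι
  have hrange : Set.range (R.map j).left = Set.range g.left := by
    refine (Set.ext fun p => ?_).trans hpre
    constructor
    · rintro ⟨q, rfl⟩
      show pullback.fst P.hom f ((R.map j).left q) ∈ W'
      refine (congr($(restrict_map_left_fst f j) q)).symm ▸ ?_
      exact (pullback.fst V.hom f q).2
    · intro hp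
      obtain ⟨q, hq, -⟩ := Scheme.exists_preimage_of_isPullback hsq p ⟨_, hp⟩ rfl
      exact ⟨q, hq⟩
  let e := IsOpenImmersion.isoOfRangeEq g.left (R.map j).left hrange.symm
  have he : e.hom ≫ (R.map j).left = g.left := IsOpenImmersion.isoOfRangeEq_hom_fac _ _ _
  let g' : R.obj Y ⟶ R.obj V := homMk e.hom (by
    rw [← w g, ← he, Category.assoc, w (R.map j)])
  haveI : IsIso g'.left := inferInstanceAs (IsIso e.hom)
  haveI : IsIso g' := isIso_of_isIso_left g'
  have hg' : g' ≫ R.map j = g := hom_ext he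
  have hq : g' ≫ R.map (j ≫ p₁) = 𝟙 _ := by rw [R.map_comp, ← Category.assoc, hg', hg1]
  haveI : IsIso (R.map (j ≫ p₁)) := by
    rw [← IsIso.inv_eq_of_hom_inv_id hq]; infer_instance
  haveI := isIso_of_isIso_restrict f hf (j ≫ p₁)
  refine ⟨inv (j ≫ p₁) ≫ j ≫ p₂, ?_⟩
  show R.map (inv (j ≫ p₁) ≫ j ≫ p₂) = ψ
  rw [R.map_comp, R.map_comp, R.map_inv, ← Category.assoc]
  have : inv (R.map (j ≫ p₁)) = g' := IsIso.inv_eq_of_inv_hom_id hq
  rw [this, hg', hg2]

theorem full_faithful_restrict (f : X' ⟶ X)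
    (hf : ∀ W : Set X, IsClopen W → W.Nonempty → (W ∩ Set.range f).Nonempty)
    (hd : ClopenDescend f) : (FEt.restrict f).Full ∧ (FEt.restrict f).Faithful :=
  ⟨full_restrict f hf hd, faithful_restrict f hf⟩

/-- a set stable under specializations and generizations, with finitely many generizing points -/
theorem isClopen_of_stable {α : Type u} [TopologicalSpace α] {G : Set α} (hG : G.Finite)
    (hgen : ∀ y, ∃ g ∈ G, g ⤳ y) {S : Set α} (h : ∀ a b : α, a ⤳ b → (a ∈ S ↔ b ∈ S)) : IsClopen S := by
  have key : ∀ S' : Set α, (∀ a b : α, a ⤳ b → (a ∈ S' ↔ b ∈ S')) → IsClosed S' := fun S' h' => by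
    have : S' = ⋃ g ∈ G ∩ S', closure {g} := by
      ext y
      simp only [Set.mem_iUnion, exists_prop, ← specializes_iff_mem_closure]
      refine ⟨fun hy => ?_, fun ⟨g, ⟨_, hgS⟩, hgy⟩ => (h' g y hgy).mp hgS⟩
      obtain ⟨g, hgG, hgy⟩ := hgen y
      exact ⟨g, ⟨hgG, (h' g y hgy).mpr hy⟩, hgy⟩
    rw [this]
    exact (hG.inter_of_left S').isClosed_biUnion fun _ _ => isClosed_closure
  exact ⟨key S h, isClosed_compl_iff.mp (key _ fun a b hab => not_congr (h a b hab))⟩

/-- covers of an irreducible scheme have finitely many generizing points, over the generic point -/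
theorem exists_gen_fiber [IrreducibleSpace X] (Z : FEt.Cat X) :
    (Z.hom ⁻¹' {genericPoint X}).Finite ∧ ∀ z : Z.left, ∃ g ∈ Z.hom ⁻¹' {genericPoint X}, g ⤳ z := by
  refine ⟨Z.hom.finite_preimage_singleton _, fun z => ?_⟩
  obtain ⟨g, hg, hfg⟩ := Flat.generalizingMap Z.hom
    ((genericPoint_spec X).specializes (Set.mem_univ (Z.hom z)))
  exact ⟨g, hfg, hg⟩

end Groth.Agent.FEtLib
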