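import Mathlib
import Groth.Agent.FEtLib.FullCrit
import Groth.Agent.HenselCouple.Basic

/-!
# `O_S = f_* O_X` is stable under finite locally free base change; full faithfulness of restriction

`app_bijective_baseChange`: if `Γ(S, U) → Γ(X, f⁻¹U)` is bijective for all opens `U`, then for a finite flat
finitely presented `g : Z → S` the projection `Z ×_S X → Z` is bijective on global sections.
-/

set_option autoImplicit false
set_option linter.style.haveILetI false
set_option backward.isDefEq.respectTransparency false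

noncomputable section

open AlgebraicGeometry CategoryTheory CategoryTheory.Limits Opposite TensorProduct

namespace Groth.Agent.FEtLib

universe u

section Ring

variable {A B : Type u} [CommRing A] [CommRing B] [Algebra A B] {C R : CommRingCat.{u}}
  {φC : CommRingCat.of A ⟶ C} {α : CommRingCat.of B ⟶ R} {β : C ⟶ R}

theorem exists_coordFun (h : IsPushout (CommRingCat.ofHom (algebraMap A B)) φC α β) :
    (∀ P : R → Prop, P 0 → (∀ a b, P a → P b → P (a + b)) → (∀ z c, P (α z * β c)) → ∀ r, P r) ∧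
    ∀ φ : B →ₗ[A] A, ∃ ψ : R →+ C, ∀ z c, ψ (α z * β c) = φC (φ z) * c := by
  letI : Algebra A C := φC.hom.toAlgebra
  letI : Algebra B R := α.hom.toAlgebra
  letI : Algebra C R := β.hom.toAlgebra
  letI : Algebra A R := (α.hom.comp (algebraMap A B)).toAlgebra
  haveI : IsScalarTower A B R := IsScalarTower.of_algebraMap_eq fun _ => rfl
  haveI : IsScalarTower A C R := IsScalarTower.of_algebraMap_eq fun a => ConcreteCategory.congr_hom h.w a
  haveI : Algebra.IsPushout A B C R := CommRingCat.isPushout_iff_isPushout.mp h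
  let e := Algebra.IsPushout.equiv A B C R
  have he : ∀ z c, e (z ⊗ₜ c) = α z * β c := fun z c => Algebra.IsPushout.equiv_tmul ..
  refine ⟨fun P h0 ha ht r => ?_, fun φ => ?_⟩
  · obtain ⟨t, rfl⟩ := e.surjective r
    induction t using TensorProduct.induction_on with
    | zero => rw [map_zero]; exact h0
    | tmul z c => rw [he]; exact ht z c
    | add x y hx hy => rw [map_add]; exact ha _ _ hx hy
  · refine ⟨((TensorProduct.lid A C).toLinearMap ∘ₗ φ.rTensor C).toAddMonoidHom.comp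
      e.symm.toAddEquiv.toAddMonoidHom, fun z c => ?_⟩
    change TensorProduct.lid A C (φ.rTensor C (e.symm (α z * β c))) = _
    rw [← he, AlgEquiv.symm_apply_apply, LinearMap.rTensor_tmul, TensorProduct.lid_tmul, Algebra.smul_def]
    rfl

end Ring

variable {X S Z P : Scheme.{u}} {f : X ⟶ S} {g : Z ⟶ S} {p : P ⟶ Z} {q : P ⟶ X}

theorem isPushout_pieces (H : IsPullback p q g f) {V : S.Opens} (hV : IsAffineOpen V) [IsAffineHom g]
    {U : X.Opens} (hU : IsAffineOpen U) (hUV : U ≤ f ⁻¹ᵁ V) :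
    IsPushout (g.appLE V (g ⁻¹ᵁ V) le_rfl) (f.appLE V U hUV)
      (p.appLE (g ⁻¹ᵁ V) (p ⁻¹ᵁ g ⁻¹ᵁ V ⊓ q ⁻¹ᵁ U) inf_le_left)
      (q.appLE U (p ⁻¹ᵁ g ⁻¹ᵁ V ⊓ q ⁻¹ᵁ U) inf_le_right) :=
  (isIso_pushoutSection_iff H hUV le_rfl rfl).mp
    (isIso_pushoutSection_of_isAffineOpen H hUV le_rfl rfl hV hU (hV.preimage g))

theorem app_bijective_of_affine (H : IsPullback p q g f) (hf : ∀ U : S.Opens, Function.Bijective (f.app U))
    [IsFinite g] [Flat g] [LocallyOfFinitePresentation g] {V : S.Opens} (hV : IsAffineOpen V) :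
    Function.Bijective (p.app (g ⁻¹ᵁ V)) := by
  letI : Algebra Γ(S, V) Γ(Z, g ⁻¹ᵁ V) := (g.appLE V (g ⁻¹ᵁ V) le_rfl).hom.toAlgebra
  haveI : Module.Finite Γ(S, V) Γ(Z, g ⁻¹ᵁ V) := by
    have := g.finite_app V hV
    rw [← Scheme.Hom.appLE_eq_app] at this
    exact this
  haveI : Module.Flat Γ(S, V) Γ(Z, g ⁻¹ᵁ V) := g.flat_appLE hV (hV.preimage g) le_rfl
  haveI : Algebra.FinitePresentation Γ(S, V) Γ(Z, g ⁻¹ᵁ V) :=
    g.finitePresentation_appLE hV (hV.preimage g) le_rfl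
  haveI : Module.FinitePresentation Γ(S, V) Γ(Z, g ⁻¹ᵁ V) :=
    Module.FinitePresentation.of_finite_of_finitePresentation _ _
  haveI : Module.Projective Γ(S, V) Γ(Z, g ⁻¹ᵁ V) := Module.Flat.projective_of_finitePresentation
  obtain ⟨n, F, G, -, -, hFG⟩ := Module.Finite.exists_comp_eq_id_of_projective Γ(S, V) Γ(Z, g ⁻¹ᵁ V)
  let φ : Fin n → (Γ(Z, g ⁻¹ᵁ V) →ₗ[Γ(S, V)] Γ(S, V)) := fun i => LinearMap.proj i ∘ₗ G
  let b : Fin n → Γ(Z, g ⁻¹ᵁ V) := fun i => F (Pi.single i 1)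
  let aM := (g.appLE V (g ⁻¹ᵁ V) le_rfl)
  have hb : ∀ z, z = ∑ i, aM (φ i z) * b i := by
    intro z
    have h1 : G z = ∑ i, φ i z • Pi.single i (1 : Γ(S, V)) := by
      ext j
      simp [φ, Finset.sum_apply, Pi.single_apply]
    conv_lhs => rw [← LinearMap.id_apply (R := Γ(S, V)) z, ← hFG, LinearMap.comp_apply, h1, map_sum]
    exact Finset.sum_congr rfl fun i _ => by rw [map_smul, Algebra.smul_def]; rfl
  let PU : X.Opens → P.Opens := fun U => p ⁻¹ᵁ g ⁻¹ᵁ V ⊓ q ⁻¹ᵁ U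
  let α : ∀ U : X.Opens, Γ(Z, g ⁻¹ᵁ V) ⟶ Γ(P, PU U) := fun U => p.appLE _ _ inf_le_left
  let β : ∀ U : X.Opens, Γ(X, U) ⟶ Γ(P, PU U) := fun U => q.appLE _ _ inf_le_right
  let ι := {U : X.affineOpens // (U : X.Opens) ≤ f ⁻¹ᵁ V}
  have hres : ∀ {U U' : X.Opens} (h : U' ≤ U) z,
      P.presheaf.map (homOfLE (inf_le_inf_left _ (q.preimage_mono h) : PU U' ≤ PU U)).op (α U z) = α U' z :=
    fun h z => ConcreteCategory.congr_hom (Scheme.Hom.appLE_map p _ _) z
  have hresβ : ∀ {U U' : X.Opens} (h : U' ≤ U) c,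
      P.presheaf.map (homOfLE (inf_le_inf_left _ (q.preimage_mono h) : PU U' ≤ PU U)).op (β U c) =
        β U' (X.presheaf.map (homOfLE h).op c) := fun h c => by
    refine (ConcreteCategory.congr_hom (Scheme.Hom.appLE_map q _ _) c).trans ?_
    exact (ConcreteCategory.congr_hom (Scheme.Hom.map_appLE q _ _) c).symm
  have hpo := fun (U : ι) => exists_coordFun (A := Γ(S, V)) (B := Γ(Z, g ⁻¹ᵁ V))
    (isPushout_pieces H hV U.1.2 U.2)
  choose hind hψ using hpo
  choose ψ hψ using hψ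
  have hψ1 : ∀ (U : ι) i z, ψ U (φ i) (α U.1 z) = f.appLE V U.1 U.2 (φ i z) := fun U i z => by
    have := hψ U (φ i) z 1
    rwa [map_one, mul_one, mul_one] at this
  have hnat : ∀ (U U' : ι) (h : (U'.1 : X.Opens) ≤ U.1) (i : Fin n) r,
      ψ U' (φ i) (P.presheaf.map (homOfLE (inf_le_inf_left _ (q.preimage_mono h) : PU U'.1 ≤ PU U.1)).op r) =
        X.presheaf.map (homOfLE h).op (ψ U (φ i) r) := by
    intro U U' h i r
    revert r
    refine hind U _ ?_ ?_ ?_
    · simp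
    · intro a b ha hb; simp only [map_add, ha, hb]
    · intro z c
      erw [map_mul, hres h z, hresβ h c, hψ U', hψ U, map_mul]
      congr 1
      exact (ConcreteCategory.congr_hom (Scheme.Hom.appLE_map f U.2 (homOfLE h).op) (φ i z)).symm
  have hrep : ∀ (U : ι) r, r = ∑ i, α U.1 (b i) * β U.1 (ψ U (φ i) r) := by
    intro U
    refine hind U _ ?_ ?_ ?_
    · simp
    · intro a b' ha hb'
      simp only [map_add, mul_add, Finset.sum_add_distrib]
      rw [← ha, ← hb']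
    · intro z c
      conv_lhs => rw [hb z, map_sum, Finset.sum_mul]
      refine Finset.sum_congr rfl fun i _ => ?_
      rw [hψ U, map_mul, map_mul]
      have : α U.1 (aM (φ i z)) = β U.1 (f.appLE V U.1 U.2 (φ i z)) :=
        ConcreteCategory.congr_hom (isPushout_pieces H hV U.1.2 U.2).w (φ i z)
      erw [this]
      ring
  have hcov : f ⁻¹ᵁ V ≤ ⨆ U : ι, (U.1 : X.Opens) := fun x hx => by
    obtain ⟨U, hU, hxU, hUV⟩ := exists_isAffineOpen_mem_and_subset hx
    exact TopologicalSpace.Opens.mem_iSup.mpr ⟨⟨⟨U, hU⟩, hUV⟩, hxU⟩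
  have hcovP : p ⁻¹ᵁ g ⁻¹ᵁ V ≤ ⨆ U : ι, PU U.1 := fun w hw => by
    have hq : q w ∈ f ⁻¹ᵁ V := by
      show f (q w) ∈ V
      rw [← Scheme.Hom.comp_apply, ← H.w]; exact hw
    obtain ⟨U, hU⟩ := TopologicalSpace.Opens.mem_iSup.mp (hcov hq)
    exact TopologicalSpace.Opens.mem_iSup.mpr ⟨U, hw, hU⟩
  have hαres : ∀ (U : ι) z,
      P.presheaf.map (homOfLE (inf_le_left : PU U.1 ≤ p ⁻¹ᵁ g ⁻¹ᵁ V)).op (p.app (g ⁻¹ᵁ V) z) = α U.1 z :=
    fun U z => rfl
  have hfres : ∀ (U : ι) a, X.presheaf.map (homOfLE U.2).op (f.app V a) = f.appLE V U.1 U.2 a :=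
    fun U a => rfl
  refine ⟨fun z₁ z₂ hz => ?_, fun s => ?_⟩
  · have : ∀ i, φ i z₁ = φ i z₂ := fun i => (hf V).1 <| by
      refine TopCat.Sheaf.eq_of_locally_eq' X.sheaf (fun U : ι => (U.1 : X.Opens)) _
        (fun U => homOfLE U.2) hcov _ _ fun U => ?_
      show X.presheaf.map _ (f.app V (φ i z₁)) = X.presheaf.map _ (f.app V (φ i z₂))
      rw [hfres, hfres, ← hψ1, ← hψ1, ← hαres, ← hαres, hz]
    rw [hb z₁, hb z₂]
    exact Finset.sum_congr rfl fun i _ => by rw [this i]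
  · have hglue : ∀ i, ∃ a, ∀ U : ι, f.appLE V U.1 U.2 a =
        ψ U (φ i) (P.presheaf.map (homOfLE (inf_le_left : PU U.1 ≤ p ⁻¹ᵁ g ⁻¹ᵁ V)).op s) := by
      intro i
      let sf : ∀ U : ι, Γ(X, U.1) := fun U =>
        ψ U (φ i) (P.presheaf.map (homOfLE (inf_le_left : PU U.1 ≤ p ⁻¹ᵁ g ⁻¹ᵁ V)).op s)
      obtain ⟨c, hc, -⟩ := X.sheaf.existsUnique_gluing' (fun U : ι => (U.1 : X.Opens)) (f ⁻¹ᵁ V)
        (fun U => homOfLE U.2) hcov sf (fun U U' => by
          let κ := {W : ι // (W.1 : X.Opens) ≤ (U.1 : X.Opens) ⊓ (U'.1 : X.Opens)}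
          refine TopCat.Sheaf.eq_of_locally_eq' X.sheaf (fun W : κ => (W.1.1 : X.Opens)) _
            (fun W => homOfLE W.2) (fun x hx => ?_) _ _ fun W => ?_
          · obtain ⟨W, hW, hxW, hWU⟩ := exists_isAffineOpen_mem_and_subset (U := (U.1 : X.Opens) ⊓ (U'.1 : X.Opens)) hx
            exact TopologicalSpace.Opens.mem_iSup.mpr
              ⟨⟨⟨⟨W, hW⟩, fun y hy => U.2 (hWU hy).1⟩, hWU⟩, hxW⟩
          · show X.presheaf.map _ (X.presheaf.map _ (sf U)) = X.presheaf.map _ (X.presheaf.map _ (sf U'))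
            rw [← CommRingCat.comp_apply, ← Functor.map_comp, ← CommRingCat.comp_apply, ← Functor.map_comp]
            show X.presheaf.map (homOfLE (W.2.trans inf_le_left)).op (sf U) =
              X.presheaf.map (homOfLE (W.2.trans inf_le_right)).op (sf U')
            rw [← hnat U W.1, ← hnat U' W.1, ← CommRingCat.comp_apply, ← CommRingCat.comp_apply,
              ← Functor.map_comp, ← Functor.map_comp]
            rfl)
      obtain ⟨a, rfl⟩ := (hf V).2 c
      exact ⟨a, fun U => (hfres U a).symm.trans (hc U)⟩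
    choose a ha using hglue
    refine ⟨∑ i, aM (a i) * b i, ?_⟩
    refine TopCat.Sheaf.eq_of_locally_eq' P.sheaf (fun U : ι => PU U.1) _ (fun U => homOfLE inf_le_left)
      hcovP _ _ fun U => ?_
    show P.presheaf.map _ (p.app (g ⁻¹ᵁ V) _) = P.presheaf.map _ s
    rw [hαres, map_sum]
    refine Eq.trans ?_ (hrep U _).symm
    refine Finset.sum_congr rfl fun i _ => ?_
    rw [map_mul, ← ha i U]
    have : α U.1 (aM (a i)) = β U.1 (f.appLE V U.1 U.2 (a i)) :=
      ConcreteCategory.congr_hom (isPushout_pieces H hV U.1.2 U.2).w (a i)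
    erw [this]
    ring

/-- bijectivity over the preimage of any open -/
theorem app_bijective_baseChange (H : IsPullback p q g f) (hf : ∀ U : S.Opens, Function.Bijective (f.app U))
    [IsFinite g] [Flat g] [LocallyOfFinitePresentation g] : Function.Bijective p.appTop := by
  have hn : ∀ {O O' : Z.Opens} (h : O' ⟶ O) z, p.app O' (Z.presheaf.map h.op z) =
      P.presheaf.map ((TopologicalSpace.Opens.map p.base).map h).op (p.app O z) := fun h z =>
    ConcreteCategory.congr_hom (p.naturality h.op) z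
  have hinj : ∀ O : S.Opens, Function.Injective (p.app (g ⁻¹ᵁ O)) := by
    intro O z₁ z₂ hz
    let κ := {V : S.affineOpens // (V : S.Opens) ≤ O}
    refine TopCat.Sheaf.eq_of_locally_eq' Z.sheaf (fun V : κ => g ⁻¹ᵁ (V.1 : S.Opens)) _
      (fun V => homOfLE (g.preimage_mono V.2)) (fun z hz' => ?_) _ _ fun V => ?_
    · obtain ⟨V, hV, hzV, hVO⟩ := exists_isAffineOpen_mem_and_subset (x := g z) (U := O) hz'
      exact TopologicalSpace.Opens.mem_iSup.mpr ⟨⟨⟨V, hV⟩, hVO⟩, hzV⟩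
    · apply (app_bijective_of_affine H hf V.1.2).1
      show p.app _ (Z.presheaf.map _ z₁) = p.app _ (Z.presheaf.map _ z₂)
      rw [hn, hn, hz]
  refine ⟨fun z₁ z₂ hz => hinj ⊤ hz, fun s => ?_⟩
  have hex : ∀ V : S.affineOpens, ∃ e, p.app (g ⁻¹ᵁ (V : S.Opens)) e =
      P.presheaf.map (homOfLE le_top).op s := fun V => (app_bijective_of_affine H hf V.2).2 _
  choose e he using hex
  obtain ⟨E, hE, -⟩ := Z.sheaf.existsUnique_gluing' (fun V : S.affineOpens => g ⁻¹ᵁ (V : S.Opens)) ⊤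
    (fun V => homOfLE le_top) (fun z _ => by
      obtain ⟨V, hV, hzV, -⟩ := exists_isAffineOpen_mem_and_subset (x := g z) (U := ⊤) trivial
      exact TopologicalSpace.Opens.mem_iSup.mpr ⟨⟨V, hV⟩, hzV⟩) e (fun V V' => by
      apply hinj (V ⊓ V' : S.Opens)
      show p.app _ (Z.presheaf.map _ (e V)) = p.app _ (Z.presheaf.map _ (e V'))
      erw [hn, he, hn, he, ← CommRingCat.comp_apply, ← Functor.map_comp, ← CommRingCat.comp_apply,
        ← Functor.map_comp]
      rfl)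
  refine ⟨E, TopCat.Sheaf.eq_of_locally_eq' P.sheaf (fun V : S.affineOpens => p ⁻¹ᵁ g ⁻¹ᵁ (V : S.Opens)) ⊤
    (fun V => homOfLE le_top) (fun w _ => ?_) _ _ fun V => ?_⟩
  · obtain ⟨V, hV, hzV, -⟩ := exists_isAffineOpen_mem_and_subset (x := g (p w)) (U := ⊤) trivial
    exact TopologicalSpace.Opens.mem_iSup.mpr ⟨⟨V, hV⟩, hzV⟩
  · show P.presheaf.map _ (p.app ⊤ E) = P.presheaf.map _ s
    rw [← he V, ← hE V]
    exact (ConcreteCategory.congr_hom (p.naturality (homOfLE le_top).op) E).symm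

theorem full_faithful_of_app_bijective (hf : ∀ U : S.Opens, Function.Bijective (f.app U)) :
    (FEt.restrict f).Full ∧ (FEt.restrict f).Faithful := by
  refine full_faithful_restrict f (fun W hW hne => ?_) fun Y W hW => ?_
  · by_contra hemp
    obtain ⟨w, hw⟩ := hne
    let O : S.Opens := ⟨W, hW.2⟩
    have hbot : f ⁻¹ᵁ O = ⊥ := eq_bot_iff.mpr fun x hx =>
      (hemp ⟨f x, hx, x, rfl⟩).elim
    haveI : Subsingleton Γ(X, f ⁻¹ᵁ O) := by rw [hbot]; exact inferInstance
    haveI : Subsingleton Γ(S, O) := (hf O).1.subsingleton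
    exact not_nontrivial _ (S.presheaf.germ O w hw).hom.domain_nontrivial
  · let g : Y.left ⟶ S := Y.hom
    haveI : IsFinite g := Y.prop.1
    haveI : Etale g := Y.prop.2
    obtain ⟨E, hE, hEW⟩ := HenselCouple.exists_idem_basicOpen hW
    have hb := app_bijective_baseChange (IsPullback.of_hasPullback g f) hf
    obtain ⟨E', rfl⟩ := hb.2 E
    have hE' : IsIdempotentElem E' := hb.1 (by rw [map_mul]; exact hE)
    refine ⟨_, HenselCouple.isClopen_basicOpen hE', ?_⟩
    rw [← hEW]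
    exact congrArg (fun O : (pullback g f).Opens => (O : Set ↥(pullback g f))) (Scheme.preimage_basicOpen (pullback.fst g f) E')

end Groth.Agent.FEtLib
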