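import Mathlib
import Groth.Agent.FEtLib.Basic
import Groth.Agent.FEtLib.Colimits
import Groth.Agent.Spectral.Components

/-! Clopen subsets as finite étale covers; spectral space of a qcqs scheme. -/

set_option autoImplicit false

noncomputable section

open AlgebraicGeometry CategoryTheory CategoryTheory.Limits

namespace Groth.Agent.FEtLib

universe u

variable {X : Scheme.{u}}

/-- a clopen subset is the range of a finite étale cover -/
theorem exists_clopenRange {W : Set X} (hW : IsClopen W) :
    ∃ (V : FEt.Cat X) (_ : IsOpenImmersion V.hom) (_ : IsClosedImmersion V.hom), Set.range V.hom = W := by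
  let U : X.Opens := ⟨W, hW.2⟩
  haveI : IsOpenImmersion U.ι := U.instIsOpenImmersionι
  haveI : IsClosedImmersion U.ι :=
    IsClosedImmersion.of_isPreimmersion _ (by rw [Scheme.Opens.range_ι]; exact hW.1)
  exact ⟨mk U.ι, ‹_›, ‹_›, Scheme.Opens.range_ι U⟩

theorem spectralSpace [CompactSpace X] [QuasiSeparatedSpace X] : SpectralSpace X := { }

open TopologicalSpace in
theorem t2Space_connectedComponents {T : Type u} [TopologicalSpace T] [SpectralSpace T] :
    T2Space (_root_.ConnectedComponents T) := by
  refine ⟨fun a b hab => ?_⟩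
  obtain ⟨x, rfl⟩ := ConnectedComponents.surjective_coe a
  obtain ⟨y, rfl⟩ := ConnectedComponents.surjective_coe b
  rw [Ne, ConnectedComponents.coe_eq_coe', Spectral.mem_connectedComponent_iff] at hab
  push Not at hab
  obtain ⟨W, hW, hyW, hxW⟩ := hab
  have hsat : ConnectedComponents.mk ⁻¹' (ConnectedComponents.mk '' W) = W := by
    rw [connectedComponents_preimage_image, hW.biUnion_connectedComponent_eq]
  have hsat' : ConnectedComponents.mk ⁻¹' (ConnectedComponents.mk '' W)ᶜ = Wᶜ := by
    rw [Set.preimage_compl, hsat]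
  refine ⟨(ConnectedComponents.mk '' W)ᶜ, ConnectedComponents.mk '' W, ?_, ?_, ?_, ⟨y, hyW, rfl⟩,
    disjoint_compl_left⟩
  · rw [← ConnectedComponents.isQuotientMap_coe.isOpen_preimage, hsat']; exact hW.1.isOpen_compl
  · rw [← ConnectedComponents.isQuotientMap_coe.isOpen_preimage, hsat]; exact hW.2
  · intro hx
    exact hxW (hsat ▸ (hx : x ∈ ConnectedComponents.mk ⁻¹' (ConnectedComponents.mk '' W)))

end Groth.Agent.FEtLib
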