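import Mathlib
import Groth.Agent.FEtLib.Basic
import Groth.Agent.FlatPurLib.Section
import Groth.Agent.Depth.Basic

/-! Full faithfulness of restriction across a closed subset of depth at least two. -/

set_option autoImplicit false
set_option linter.style.haveILetI false

noncomputable section

open AlgebraicGeometry CategoryTheory CategoryTheory.Limits

namespace Groth.Agent.FEtLib

universe u

variable {X : Scheme.{u}}

/-- the complement of `U` has depth at least two, in regular sequence form -/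
def HasRegSeq2 (X : Scheme.{u}) (U : X.Opens) : Prop :=
  ∀ z : X, z ∉ U → ∃ a b : X.presheaf.stalk z, a ∈ IsLocalRing.maximalIdeal (X.presheaf.stalk z) ∧
    b ∈ IsLocalRing.maximalIdeal (X.presheaf.stalk z) ∧
    RingTheory.Sequence.IsWeaklyRegular (X.presheaf.stalk z) [a, b]

theorem hasRegSeq2_of_depth {U : X.Opens}
    (h : ∀ x : X, x ∉ U → (2 : ℕ∞) ≤ LocCoh.depth (X.presheaf.stalk x) (X.presheaf.stalk x)) :
    HasRegSeq2 X U := fun z hz => by
  obtain ⟨rs, hl, hm, hr⟩ := (Depth.le_idealDepth_iff_exists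
    (Depth.smul_top_ne_top_self (IsLocalRing.maximalIdeal.isMaximal _).ne_top) (n := 2)).mp (h z hz)
  match rs, hl with
  | [a, b], _ => exact ⟨a, b, hm a (by simp), hm b (by simp), hr⟩

theorem HasRegSeq2.preimage_of_flat {U : X.Opens} (h : HasRegSeq2 X U) {Y : Scheme.{u}} (f : Y ⟶ X)
    [Flat f] : HasRegSeq2 Y (f ⁻¹ᵁ U) := fun y hy => by
  obtain ⟨a, b, ha, hb, hr⟩ := h (f y) hy
  let φ := (f.stalkMap y).hom
  refine ⟨φ a, φ b, fun hu => ha (isUnit_of_map_unit φ a hu), fun hu => hb (isUnit_of_map_unit φ b hu), ?_⟩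
  · letI := φ.toAlgebra
    haveI : Module.Flat (X.presheaf.stalk (f y)) (Y.presheaf.stalk y) := Flat.stalkMap f y
    exact RingTheory.Sequence.IsWeaklyRegular.of_flat hr

theorem HasRegSeq2.depth2 {U : X.Opens} (h : HasRegSeq2 X U) : FlatPurLib.Depth2 X U := fun z hz => by
  obtain ⟨a, b, ha, hb, hr⟩ := h z hz
  exact ⟨a, b, ha, hb, FlatPurLib.dvd_of_isWeaklyRegular hr⟩

theorem HasRegSeq2.res_bijective_appTop {U : X.Opens} (h : HasRegSeq2 X U) [IsAffine X] [CompactSpace U] :
    IsIso U.ι.appTop :=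
  FlatPurLib.isIso_ι_appTop h.depth2

/-- regular sequence form on an affine scheme -/
theorem hasRegSeq2_spec {B : Type u} [CommRing B] (U : (Spec (CommRingCat.of B)).Opens)
    (h : ∀ p : PrimeSpectrum B, (p : Spec (CommRingCat.of B)) ∉ U →
      (2 : ℕ∞) ≤ LocCoh.depth (Localization.AtPrime p.asIdeal) (Localization.AtPrime p.asIdeal)) :
    HasRegSeq2 (Spec (CommRingCat.of B)) U := fun z hz => by
  let z' : PrimeSpectrum B := z
  let L := (AlgebraicGeometry.Spec.structureSheaf B).presheaf.stalk z'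
  haveI : IsLocalRing L := IsLocalization.AtPrime.isLocalRing L z'.asIdeal
  let e : Localization.AtPrime z'.asIdeal ≃ₐ[B] L := IsLocalization.algEquiv z'.asIdeal.primeCompl _ _
  letI := e.toAlgHom.toRingHom.toAlgebra
  haveI : Module.Flat (Localization.AtPrime z'.asIdeal) L :=
    Module.Flat.of_linearEquiv (LinearEquiv.ofBijective (Algebra.linearMap _ L) e.bijective).symm
  obtain ⟨rs, hl, hm, hr⟩ := (Depth.le_idealDepth_iff_exists
    (Depth.smul_top_ne_top_self (IsLocalRing.maximalIdeal.isMaximal _).ne_top) (n := 2)).mp (h z' hz)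
  match rs, hl with
  | [a, b], _ =>
    show ∃ a b : L, a ∈ IsLocalRing.maximalIdeal L ∧ b ∈ IsLocalRing.maximalIdeal L ∧
      RingTheory.Sequence.IsWeaklyRegular L [a, b]
    exact ⟨e a, e b, fun hu => hm a (by simp) ((isUnit_map_iff e a).mp hu),
      fun hu => hm b (by simp) ((isUnit_map_iff e b).mp hu),
      RingTheory.Sequence.IsWeaklyRegular.of_flat hr⟩

/-- morphisms to an affine scheme over `X` extend uniquely across a closed subset of depth two -/
theorem exists_hom_extend [IsLocallyNoetherian X] (U : X.Opens) (h : HasRegSeq2 X U) {Y Z : Scheme.{u}}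
    (g : Y ⟶ X) (k : Z ⟶ X) [Flat g] [LocallyOfFiniteType g] [IsAffineHom k]
    (ψ : pullback g U.ι ⟶ pullback k U.ι) (hψ : ψ ≫ pullback.snd k U.ι = pullback.snd g U.ι) :
    ∃ s : Y ⟶ Z, s ≫ k = g ∧ pullback.fst g U.ι ≫ s = ψ ≫ pullback.fst k U.ι := by
  haveI : IsLocallyNoetherian Y := LocallyOfFiniteType.isLocallyNoetherian g
  haveI : QuasiCompact (g ⁻¹ᵁ U).ι := inferInstance
  let φ := (pullbackRestrictIsoRestrict g U).symm
  have hφ : φ.hom ≫ pullback.fst g U.ι = (g ⁻¹ᵁ U).ι := by simp [φ]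
  let t : (g ⁻¹ᵁ U).toScheme ⟶ pullback g k :=
    pullback.lift (g ⁻¹ᵁ U).ι (φ.hom ≫ ψ ≫ pullback.fst k U.ι) (by
      rw [← hφ, Category.assoc, Category.assoc, Category.assoc, pullback.condition,
        pullback.condition, reassoc_of% hψ])
  haveI : IsAffineHom (pullback.fst g k) := MorphismProperty.of_isPullback (P := @IsAffineHom)
    (IsPullback.of_hasPullback g k).flip ‹IsAffineHom k›
  obtain ⟨s, hs, hst⟩ := FlatPurLib.section_exists (h.preimage_of_flat g).depth2
    (pullback.fst g k) t (pullback.lift_fst _ _ _)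
  refine ⟨s ≫ pullback.snd g k, by rw [Category.assoc, ← pullback.condition, reassoc_of% hs], ?_⟩
  rw [← cancel_epi φ.hom, reassoc_of% hφ, reassoc_of% hst, pullback.lift_snd]

theorem hom_unique (U : X.Opens) (h : HasRegSeq2 X U) {Y Z : Scheme.{u}}
    (g : Y ⟶ X) (k : Z ⟶ X) [Flat g] [IsSeparated k] (a b : Y ⟶ Z) (ha : a ≫ k = g) (hb : b ≫ k = g)
    (hab : pullback.fst g U.ι ≫ a = pullback.fst g U.ι ≫ b) : a = b := by
  let φ := (pullbackRestrictIsoRestrict g U).symm
  have hφ : φ.hom ≫ pullback.fst g U.ι = (g ⁻¹ᵁ U).ι := by simp [φ]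
  refine FlatPurLib.section_unique (h.preimage_of_flat g).depth2.depth1 k a b (ha.trans hb.symm) ?_
  rw [← hφ, Category.assoc, Category.assoc, hab]

theorem full_faithful_of_depth2 [IsLocallyNoetherian X] (U : X.Opens) (h : HasRegSeq2 X U) :
    (FEt.restrict U.ι).Full ∧ (FEt.restrict U.ι).Faithful := by
  constructor
  · refine ⟨fun {Y Z} ψ => ?_⟩
    obtain ⟨s, hs, hs'⟩ := exists_hom_extend U h Y.hom Z.hom ψ.left (w ψ)
    let φ : Y ⟶ Z := homMk s hs
    refine ⟨φ, hom_ext (pullback.hom_ext ?_ ?_)⟩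
    · exact (restrict_map_left_fst U.ι φ).trans hs'
    · exact (w ((FEt.restrict U.ι).map φ)).trans (w ψ).symm
  · refine ⟨fun {Y Z} a b hab => hom_ext ?_⟩
    refine hom_unique U h Y.hom Z.hom a.left b.left (w a) (w b) ?_
    exact ((restrict_map_left_fst U.ι a).symm.trans
      (congrArg (fun m => m.left ≫ pullback.fst Z.hom U.ι) hab)).trans (restrict_map_left_fst U.ι b)

end Groth.Agent.FEtLib
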