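import Mathlib

/-!
# The automorphism group of an algebraic closure of a field is compact

(also for imperfect fields: it is homeomorphic to the Galois group of the separable closure)
-/

set_option autoImplicit false
set_option linter.style.haveILetI false

noncomputable section

namespace Groth.Agent.FEtLib

universe u

variable (K : Type u) [Field K]

local notation "K̄" => AlgebraicClosure K
local notation "Ks" => separableClosure K (AlgebraicClosure K)

theorem fixed_of_fixed_sep (g : K̄ ≃ₐ[K] K̄) (x : K̄) (E : IntermediateField K K̄) (hx : x ∈ E)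
    (h : ∀ y ∈ E, IsSeparable K y → g y = y) : g x = x := by
  obtain ⟨p, _⟩ := ExpChar.exists Ks
  haveI : ExpChar K̄ p := expChar_of_injective_algebraMap (algebraMap Ks K̄).injective p
  obtain ⟨n, y, hy⟩ := IsPurelyInseparable.pow_mem Ks p x
  have h1 : g (x ^ p ^ n) = x ^ p ^ n := h _ (pow_mem hx _) (hy ▸ mem_separableClosure_iff.mp y.2)
  rw [map_pow] at h1
  exact iterateFrobenius_inj K̄ p n (by simpa [iterateFrobenius_def] using h1)

theorem continuous_restrict_bijective :
    Function.Bijective (AlgEquiv.restrictNormalHom (F := K) (K₁ := K̄) Ks) := by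
  refine ⟨(injective_iff_map_eq_one _).mpr fun g hg => AlgEquiv.ext fun x => ?_,
    AlgEquiv.restrictNormalHom_surjective K̄⟩
  refine fixed_of_fixed_sep K g x ⊤ trivial fun y _ hy => ?_
  have h := AlgEquiv.restrictNormal_commutes g Ks ⟨y, mem_separableClosure_iff.mpr hy⟩
  rw [show AlgEquiv.restrictNormal g Ks = 1 from hg] at h
  exact h.symm

/-- the restriction as a group isomorphism -/
def restrictEquiv : (K̄ ≃ₐ[K] K̄) ≃* (Ks ≃ₐ[K] Ks) :=
  MulEquiv.ofBijective _ (continuous_restrict_bijective K)

theorem continuous_restrictEquiv_symm : Continuous (restrictEquiv K).symm := by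
  apply continuous_of_continuousAt_one _ (continuousAt_def.mpr _)
  intro A hA
  rw [map_one, krullTopology_mem_nhds_one_iff] at hA
  obtain ⟨E, _, hE⟩ := hA
  let Es : IntermediateField K Ks := IntermediateField.comap (IntermediateField.val Ks) E
  haveI : FiniteDimensional K Es := by
    let f : Es →ₐ[K] E := ((IntermediateField.val Ks).comp (IntermediateField.val Es)).codRestrict
      E.toSubalgebra fun x => x.2
    exact Module.Finite.of_injective f.toLinearMap f.toRingHom.injective
  rw [krullTopology_mem_nhds_one_iff]
  refine ⟨Es, inferInstance, fun h hh => hE ?_⟩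
  rw [SetLike.mem_coe, IntermediateField.mem_fixingSubgroup_iff]
  intro x hx
  refine fixed_of_fixed_sep K _ x E hx fun y hy hys => ?_
  have h1 := AlgEquiv.restrictNormal_commutes ((restrictEquiv K).symm h) Ks ⟨y, mem_separableClosure_iff.mpr hys⟩
  rw [show AlgEquiv.restrictNormal ((restrictEquiv K).symm h) Ks = h from
    (restrictEquiv K).apply_symm_apply h] at h1
  rw [SetLike.mem_coe, IntermediateField.mem_fixingSubgroup_iff] at hh
  rw [hh _ (show (⟨y, mem_separableClosure_iff.mpr hys⟩ : Ks) ∈ Es from hy)] at h1
  exact h1.symm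

instance compactSpace_algEquiv : CompactSpace (K̄ ≃ₐ[K] K̄) :=
  (⟨⟨(restrictEquiv K).symm.toEquiv,
    continuous_restrictEquiv_symm K, InfiniteGalois.restrictNormalHom_continuous _⟩⟩ :
      Nonempty ((Ks ≃ₐ[K] Ks) ≃ₜ (K̄ ≃ₐ[K] K̄))).some.compactSpace

instance compactSpace_absoluteGaloisGroup : CompactSpace (Field.absoluteGaloisGroup K) :=
  compactSpace_algEquiv K

end Groth.Agent.FEtLib
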