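import Mathlib
import Groth.Agent.FEtLib.Galois
import Groth.Agent.FEtLib.GalSep

/-!
# Finite étale covers of a field: the absolute Galois group is the fundamental group
-/

set_option autoImplicit false
set_option linter.style.haveILetI false

noncomputable section

open AlgebraicGeometry CategoryTheory CategoryTheory.Limits FintypeCatDiscrete

namespace Groth.Agent.FEtLib

universe u

variable (K : Type u) [Field K]

/-- the standard geometric point of `Spec K` -/
abbrev xiK : Spec (CommRingCat.of (AlgebraicClosure K)) ⟶ Spec (CommRingCat.of K) :=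
  Spec.map (CommRingCat.ofHom (algebraMap K (AlgebraicClosure K)))

/-- a Galois automorphism on `Spec` -/
abbrev gSpec (g : (AlgebraicClosure K ≃ₐ[K] AlgebraicClosure K)) :
    Spec (CommRingCat.of (AlgebraicClosure K)) ⟶ Spec (CommRingCat.of (AlgebraicClosure K)) :=
  Spec.map (CommRingCat.ofHom (g : AlgebraicClosure K →+* AlgebraicClosure K))

theorem gSpec_xiK (g : (AlgebraicClosure K ≃ₐ[K] AlgebraicClosure K)) : gSpec K g ≫ xiK K = xiK K := by
  rw [← Spec.map_comp]
  congr 1
  exact CommRingCat.hom_ext (RingHom.ext fun x =>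
    g.commutes x)

theorem gSpec_mul (g h : (AlgebraicClosure K ≃ₐ[K] AlgebraicClosure K)) : gSpec K (g * h) = gSpec K g ≫ gSpec K h := by
  rw [← Spec.map_comp]
  rfl

theorem gSpec_one : gSpec K 1 = 𝟙 _ := by
  rw [← Spec.map_id]
  rfl

instance mulAction (Y : FEt.Cat (Spec (CommRingCat.of K))) :
    MulAction ((AlgebraicClosure K ≃ₐ[K] AlgebraicClosure K)) (FEt.fiberObj (xiK K) Y) where
  smul g s := ⟨gSpec K g ≫ s.1,
    (Category.assoc _ _ _).trans ((congrArg (gSpec K g ≫ ·) s.2).trans (gSpec_xiK K g))⟩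
  one_smul s := Subtype.ext ((congrArg (· ≫ s.1) (gSpec_one K)).trans (Category.id_comp _))
  mul_smul g h s := Subtype.ext ((congrArg (· ≫ s.1) (gSpec_mul K g h)).trans (Category.assoc _ _ _))

instance mulActionFin (Y : FEt.Cat (Spec (CommRingCat.of K))) :
    MulAction ((AlgebraicClosure K ≃ₐ[K] AlgebraicClosure K)) ((fiberFin (xiK K)).obj Y) :=
  inferInstanceAs (MulAction ((AlgebraicClosure K ≃ₐ[K] AlgebraicClosure K)) (FEt.fiberObj (xiK K) Y))

theorem smul_val {Y : FEt.Cat (Spec (CommRingCat.of K))} (g : (AlgebraicClosure K ≃ₐ[K] AlgebraicClosure K))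
    (s : FEt.fiberObj (xiK K) Y) : (g • s).1 = gSpec K g ≫ s.1 := rfl

/-- the coordinate ring of a fibre point as an algebra homomorphism -/
theorem exists_alg (Y : FEt.Cat (Spec (CommRingCat.of K))) :
    ∃ (A : Type u) (_ : CommRing A) (_ : Algebra K A) (_ : Module.Finite K A)
      (φ : FEt.fiberObj (xiK K) Y → (A →ₐ[K] AlgebraicClosure K)),
      (∀ (g : AlgebraicClosure K ≃ₐ[K] AlgebraicClosure K) s a, φ (g • s) a = g (φ s a)) ∧
      Function.Injective φ ∧
      ∀ s t, pt s.1 = pt t.1 → RingHom.ker (φ s) = RingHom.ker (φ t) := by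
  haveI : IsAffine Y.left := isAffine_of_isAffineHom (Y := Spec (CommRingCat.of K)) Y.hom
  obtain ⟨c, hc⟩ := Spec.map_surjective (Y.left.isoSpec.inv ≫ Y.hom)
  haveI : IsFinite (Y.left.isoSpec.inv ≫ Y.hom) := inferInstance
  have hfin : c.hom.Finite := (IsFinite.SpecMap_iff c).mp (hc ▸ inferInstance)
  letI := c.hom.toAlgebra
  let q : FEt.fiberObj (xiK K) Y → (Γ(Y.left, ⊤) ⟶ CommRingCat.of (AlgebraicClosure K)) :=
    fun s => Spec.preimage (s.1 ≫ Y.left.isoSpec.hom)
  have hq : ∀ s, c ≫ q s = CommRingCat.ofHom (algebraMap K (AlgebraicClosure K)) := fun s =>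
    Spec.map_injective (by
      rw [Spec.map_comp, Spec.map_preimage, hc, Category.assoc, Iso.hom_inv_id_assoc]
      exact s.2)
  let φ : FEt.fiberObj (xiK K) Y → (Γ(Y.left, ⊤) →ₐ[K] AlgebraicClosure K) := fun s =>
    { (q s).hom with commutes' := fun r => congr($(hq s) r) }
  refine ⟨Γ(Y.left, ⊤), inferInstance, inferInstance, hfin, φ, fun g s a => ?_, fun s t h => ?_,
    fun s t h => ?_⟩
  · have : q (g • s) = q s ≫ CommRingCat.ofHom (g : AlgebraicClosure K →+* AlgebraicClosure K) :=
      Spec.map_injective (by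
        rw [Spec.map_comp, Spec.map_preimage, Spec.map_preimage, smul_val, Category.assoc])
    exact congr($this a)
  · have h1 : q s = q t := CommRingCat.hom_ext (congrArg AlgHom.toRingHom h)
    have h2 := congrArg Spec.map h1
    simp only [q, Spec.map_preimage] at h2
    exact Subtype.ext ((cancel_mono Y.left.isoSpec.hom).mp h2)
  · have hk : ∀ u : FEt.fiberObj (xiK K) Y, RingHom.ker (φ u) =
        (Y.left.isoSpec.hom (pt u.1)).asIdeal := fun u => by
      have h1 : Y.left.isoSpec.hom (pt u.1) =
          Spec.map (q u) (IsLocalRing.closedPoint (AlgebraicClosure K)) :=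
        (Scheme.Hom.comp_apply _ _ _).symm.trans
          (congr($(Spec.map_preimage (u.1 ≫ Y.left.isoSpec.hom)) _)).symm
      rw [h1]
      show _ = (IsLocalRing.maximalIdeal (AlgebraicClosure K)).comap (q u).hom
      rw [IsLocalRing.maximalIdeal_eq_bot]
      rfl
    rw [hk, hk, h]

theorem isPretransitive_of_connected (Y : FEt.Cat (Spec (CommRingCat.of K)))
    [PreGaloisCategory.IsConnected Y] :
    MulAction.IsPretransitive ((AlgebraicClosure K ≃ₐ[K] AlgebraicClosure K)) (FEt.fiberObj (xiK K) Y) := by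
  refine ⟨fun s t => ?_⟩
  have hpt : pt s.1 = pt t.1 := by
    haveI : DiscreteTopology Y.left := discreteTopology_of_finite Y.hom
    let V : Y.left.Opens := ⟨{pt s.1}, isOpen_discrete _⟩
    haveI : IsOpenImmersion V.ι := V.instIsOpenImmersionι
    haveI : IsClosedImmersion V.ι :=
      IsClosedImmersion.of_isPreimmersion _ (by rw [Scheme.Opens.range_ι]; exact isClosed_discrete _)
    let W : FEt.Cat (Spec (CommRingCat.of K)) := mk (V.ι ≫ Y.hom)
    let j : W ⟶ Y := homMk V.ι rfl
    haveI : Mono j := ⟨fun a b hab => hom_ext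
      ((cancel_mono V.ι).mp (congrArg (fun m => m.left) hab))⟩
    have hW : ∀ hI : IsInitial W, False := fun hI => by
      obtain ⟨t', ht'⟩ := exists_lift_of_mem (A := V.toScheme) (B := Y.left) V.ι s.1
        (by rw [Scheme.Opens.range_ι]; exact rfl)
      exact PreGaloisCategory.not_initial_of_inhabited (fiberFin (xiK K))
        (X := W) (⟨t', (Category.assoc _ _ _).symm.trans ((congrArg (· ≫ Y.hom) ht').trans s.2)⟩ :
          FEt.fiberObj (xiK K) W) hI
    haveI : IsIso j := PreGaloisCategory.IsConnected.noTrivialComponent W j hW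
    obtain ⟨p, hp⟩ : ∃ p, V.ι p = pt t.1 := by
      refine ⟨(inv j).left (pt t.1), ?_⟩
      have : (inv j).left ≫ V.ι = 𝟙 _ := congrArg (fun m => m.left) (IsIso.inv_hom_id j)
      exact (Scheme.Hom.comp_apply _ _ _).symm.trans (congr($this (pt t.1)))
    exact hp ▸ (show V.ι p = pt s.1 from p.2).symm
  obtain ⟨A, _, _, _, φ, hφ, hinj, hker⟩ := exists_alg K Y
  haveI : IsDomain (φ s).range := inferInstance
  haveI : Module.Finite K (φ s).range :=
    Module.Finite.of_surjective (φ s).rangeRestrict.toLinearMap (φ s).rangeRestrict_surjective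
  haveI : IsArtinianRing (φ s).range := isArtinian_of_tower K inferInstance
  let E : IntermediateField K (AlgebraicClosure K) :=
    (φ s).range.toIntermediateField' (IsArtinianRing.isField_of_isDomain _)
  let e : E →ₐ[K] AlgebraicClosure K :=
    ((Ideal.Quotient.liftₐ (RingHom.ker (φ s)) (φ t) fun a ha => RingHom.mem_ker.mp (hker s t hpt ▸ ha)).comp
      (Ideal.quotientKerEquivRange (φ s)).symm.toAlgHom)
  let σ : AlgebraicClosure K ≃ₐ[K] AlgebraicClosure K :=
    AlgEquiv.ofBijective (e.liftNormal (AlgebraicClosure K)) (Algebra.IsAlgebraic.algHom_bijective _)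
  refine ⟨σ, hinj (AlgHom.ext fun a => ?_)⟩
  rw [hφ]
  show e.liftNormal (AlgebraicClosure K) (algebraMap E (AlgebraicClosure K) ⟨φ s a, ⟨a, rfl⟩⟩) = φ t a
  rw [AlgHom.liftNormal_commutes]
  have : (Ideal.quotientKerEquivRange (φ s)).symm ⟨φ s a, ⟨a, rfl⟩⟩ = Ideal.Quotient.mk _ a :=
    (Ideal.quotientKerEquivRange (φ s)).symm_apply_eq.mpr rfl
  simp only [e, Algebra.algebraMap_self, RingHom.id_apply, AlgHom.coe_comp, Function.comp_apply]
  exact (congrArg (Ideal.Quotient.liftₐ (RingHom.ker (φ s)) (φ t)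
    fun b hb => RingHom.mem_ker.mp (hker s t hpt ▸ hb)) this).trans rfl

theorem isOpen_stabilizer (Y : FEt.Cat (Spec (CommRingCat.of K))) (s : FEt.fiberObj (xiK K) Y) :
    IsOpen (MulAction.stabilizer ((AlgebraicClosure K ≃ₐ[K] AlgebraicClosure K)) s : Set ((AlgebraicClosure K ≃ₐ[K] AlgebraicClosure K))) := by
  obtain ⟨A, _, _, _, φ, hφ, hinj, -⟩ := exists_alg K Y
  haveI : Module.Finite K (φ s).range :=
    Module.Finite.of_surjective (φ s).rangeRestrict.toLinearMap (φ s).rangeRestrict_surjective
  haveI : IsArtinianRing (φ s).range := isArtinian_of_tower K inferInstance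
  let E : IntermediateField K (AlgebraicClosure K) :=
    (φ s).range.toIntermediateField' (IsArtinianRing.isField_of_isDomain _)
  haveI : FiniteDimensional K E := inferInstanceAs (Module.Finite K (φ s).range)
  refine Subgroup.isOpen_mono (H₁ := E.fixingSubgroup) ?_ E.fixingSubgroup_isOpen
  intro g hg
  rw [IntermediateField.mem_fixingSubgroup_iff] at hg
  exact MulAction.mem_stabilizer_iff.mpr (hinj (AlgHom.ext fun a => by
    rw [hφ]; exact hg _ ⟨a, rfl⟩))

theorem non_trivial (g : (AlgebraicClosure K ≃ₐ[K] AlgebraicClosure K))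
    (h : ∀ (Y : FEt.Cat (Spec (CommRingCat.of K))) (s : FEt.fiberObj (xiK K) Y), g • s = s) :
    g = 1 := by
  refine AlgEquiv.ext fun x => ?_
  refine fixed_of_fixed_sep K g x ⊤ trivial fun y _ hy => ?_
  let L := IntermediateField.adjoin K ({y} : Set (AlgebraicClosure K))
  haveI : FiniteDimensional K L := IntermediateField.adjoin.finiteDimensional hy.isIntegral
  haveI : Algebra.IsSeparable K L := (IntermediateField.isSeparable_adjoin_simple_iff_isSeparable (F := K) (E := AlgebraicClosure K)).mpr hy
  haveI : Algebra.FormallyEtale K L := Algebra.FormallyEtale.of_isSeparable K L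
  haveI : Algebra.FinitePresentation K L := Algebra.FinitePresentation.of_finiteType.mp inferInstance
  haveI : Algebra.Etale K L := { }
  have h1 : IsFinite (Spec.map (CommRingCat.ofHom (algebraMap K L))) :=
    (IsFinite.SpecMap_iff _).mpr (RingHom.finite_algebraMap.mpr inferInstance)
  have h2 : Etale (Spec.map (CommRingCat.ofHom (algebraMap K L))) :=
    (HasRingHomProperty.Spec_iff (P := @Etale)).mpr (RingHom.etale_algebraMap.mpr inferInstance)
  let Y : FEt.Cat (Spec (CommRingCat.of K)) := mk (Spec.map (CommRingCat.ofHom (algebraMap K L)))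
  let s : FEt.fiberObj (xiK K) Y := ⟨Spec.map (CommRingCat.ofHom (algebraMap L (AlgebraicClosure K))),
    (Spec.map_comp _ _).symm.trans (congrArg Spec.map rfl)⟩
  have := Spec.map_injective ((Spec.map_comp _ _).trans (congrArg Subtype.val (h Y s)))
  exact congr($this ⟨y, IntermediateField.mem_adjoin_simple_self K y⟩)

instance galoisCategorySpecField : GaloisCategory (FEt.Cat (Spec (CommRingCat.of K))) := galoisCategory

instance isFundamentalGroup :
    PreGaloisCategory.IsFundamentalGroup (fiberFin (xiK K)) ((AlgebraicClosure K ≃ₐ[K] AlgebraicClosure K)) where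
  naturality g X Y f s := Subtype.ext (Category.assoc _ _ _)
  transitive_of_isGalois X _ := isPretransitive_of_connected K X
  continuous_smul X := continuousSMul_iff_stabilizer_isOpen.mpr fun s => isOpen_stabilizer K X s
  non_trivial' g h := non_trivial K g fun Y s => h Y s

end Groth.Agent.FEtLib
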