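import Mathlib
import Groth.Prelude.Def_PiSp
import Groth.Agent.FEtLib.Galois

/-!
# Monodromy: fibres, connected components, topological generation

* connected components of covers = orbits of the fundamental group;
* `topGenerates_of_transitive`: a subset topologically generates as soon as the generated subgroup
  is transitive on the fibres of all connected covers.
-/

set_option autoImplicit false
set_option linter.style.haveILetI false

noncomputable section

open AlgebraicGeometry CategoryTheory CategoryTheory.Limits TopologicalSpace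

namespace Groth.Agent.FEtLib

universe u

variable {X S : Scheme.{u}}

/-- in a Noetherian space components are clopen -/
theorem isClopen_component {α : Type u} [TopologicalSpace α] [NoetherianSpace α] (x : α) :
    IsClopen (connectedComponent x) := by
  refine ⟨isClosed_connectedComponent, isClosed_compl_iff.mp ?_⟩
  have h : (connectedComponent x)ᶜ =
      ⋃ Z ∈ {Z ∈ irreducibleComponents α | Disjoint Z (connectedComponent x)}, Z := by
    ext y
    simp only [Set.mem_compl_iff, Set.mem_iUnion, Set.mem_ofPred_eq, exists_prop]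
    constructor
    · intro hy
      refine ⟨_, ⟨irreducibleComponent_mem_irreducibleComponents y, ?_⟩, mem_irreducibleComponent⟩
      refine Set.disjoint_left.mpr fun z hz hzx => hy ?_
      rw [connectedComponent_eq hzx, ← connectedComponent_eq (irreducibleComponent_subset_connectedComponent hz)]
      exact mem_connectedComponent
    · rintro ⟨Z, ⟨-, hd⟩, hyZ⟩
      exact Set.disjoint_left.mp hd hyZ
  rw [h]
  exact Set.Finite.isClosed_biUnion (NoetherianSpace.finite_irreducibleComponents.subset fun Z hZ => hZ.1)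
    fun Z hZ => isClosed_of_mem_irreducibleComponents Z hZ.1

theorem noetherianSpace_of_finiteType {T : Scheme.{u}} [IsNoetherian S] (f : T ⟶ S)
    [LocallyOfFiniteType f] [QuasiCompact f] : NoetherianSpace T :=
  haveI : IsLocallyNoetherian T := LocallyOfFiniteType.isLocallyNoetherian f
  haveI : CompactSpace T := QuasiCompact.compactSpace_of_compactSpace f
  haveI : IsNoetherian T := { }
  inferInstance

/-- a connected cover is a connected object -/
theorem isConnected_of_connectedSpace [ConnectedSpace X] (Z : FEt.Cat X) [ConnectedSpace Z.left] :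
    PreGaloisCategory.IsConnected Z := by
  refine ⟨fun hI => ?_, fun W i _ hW => ?_⟩
  · exact IsEmpty.false (α := ↥(∅ : Scheme.{u}))
      ((hI.to (emptyObj X)).left (Classical.arbitrary Z.left))
  · haveI := mono_left i
    haveI : IsOpenImmersion i.left := IsOpenImmersion.of_flat_of_mono i.left
    haveI : IsClosedImmersion i.left :=
      (IsClosedImmersion.iff_isFinite_and_mono (f := i.left)).mpr ⟨inferInstance, inferInstance⟩
    haveI : Nonempty W.left := by
      by_contra hne
      haveI : IsEmpty W.left := not_nonempty_iff.mp hne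
      exact hW ((IsInitial.ofIso (isInitialEmptyObj X) (@asIso _ _ _ _ ((isInitialEmptyObj X).to W)
        (isIso_of_fiber_all _ fun Ω _ _ ξ => ⟨fun s => IsEmpty.false (α := ↥(∅ : Scheme.{u})) (pt s.1) |>.elim,
          fun s => IsEmpty.false (α := ↥W.left) (pt s.1) |>.elim⟩))))
    haveI := isIso_of_range_eq_univ i.left
      ((isClopen_range i.left).eq_univ (Set.range_nonempty _))
    exact isIso_of_isIso_left i

section Fibre

variable {Ω : Type u} [Field Ω] [IsAlgClosed Ω]

/-- transfer of automorphisms from the finite-set valued fibre functor -/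
def toPiOne {ξ : Spec (CommRingCat.of Ω) ⟶ X} (σ : Aut (fiberFin ξ)) : FEt.piOne X ξ :=
  NatIso.ofComponents (fun Z => FintypeCat.incl.mapIso (σ.app Z)) fun f =>
    congrArg FintypeCat.incl.map (σ.hom.naturality f)

/-- the clopen subscheme as a cover -/
theorem exists_clopenCover {Z : FEt.Cat X} {W : Set Z.left} (hW : IsClopen W) :
    ∃ (V : FEt.Cat X) (j : V ⟶ Z), Mono j ∧ IsOpenImmersion j.left ∧ Set.range j.left = W := by
  let U : Z.left.Opens := ⟨W, hW.2⟩
  haveI : IsOpenImmersion U.ι := U.instIsOpenImmersionι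
  haveI : IsClosedImmersion U.ι :=
    IsClosedImmersion.of_isPreimmersion _ (by rw [Scheme.Opens.range_ι]; exact hW.1)
  refine ⟨mk (U.ι ≫ Z.hom), homMk U.ι rfl, ⟨fun a b hab => hom_ext
    ((cancel_mono U.ι).mp (congrArg (fun m => m.left) hab))⟩, U.instIsOpenImmersionι,
    Scheme.Opens.range_ι U⟩

theorem exists_fiber_lift {ξ : Spec (CommRingCat.of Ω) ⟶ X} {V Z : FEt.Cat X} (j : V ⟶ Z)
    [IsOpenImmersion j.left] (t : FEt.fiberObj ξ Z) (ht : pt t.1 ∈ Set.range j.left) :
    ∃ t' : FEt.fiberObj ξ V, (FEt.fiber ξ).map j t' = t := by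
  obtain ⟨l, hl⟩ := exists_lift_of_mem (A := V.left) (B := Z.left) j.left t.1 ht
  exact ⟨⟨l, ((congrArg (l ≫ ·) (w j).symm).trans (Category.assoc _ _ _).symm).trans
    ((congrArg (· ≫ Z.hom) hl).trans t.2)⟩, Subtype.ext hl⟩

/-- natural transformations of fibre functors preserve connected components -/
theorem component_natTrans {Ω' : Type u} [Field Ω'] [IsAlgClosed Ω']
    {ξ : Spec (CommRingCat.of Ω) ⟶ X} {ξ' : Spec (CommRingCat.of Ω') ⟶ X}
    (χ : FEt.fiber ξ ⟶ FEt.fiber ξ') {Z : FEt.Cat X} [NoetherianSpace Z.left] (t : FEt.fiberObj ξ Z) :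
    connectedComponent (pt (χ.app Z t).1) = connectedComponent (pt t.1) := by
  obtain ⟨V, j, _, _, hr⟩ := exists_clopenCover (isClopen_component (pt t.1))
  obtain ⟨t', rfl⟩ := exists_fiber_lift j t (hr ▸ mem_connectedComponent)
  refine (connectedComponent_eq ?_).symm
  rw [← hr, show χ.app Z ((FEt.fiber ξ).map j t') = (FEt.fiber ξ').map j (χ.app V t') from
    congr($(χ.naturality j) t')]
  exact ⟨_, (pt_fiber_map ξ' j _).symm⟩

/-- points of the fibre in one component are conjugate -/
theorem exists_smul_of_component [ConnectedSpace X] {ξ : Spec (CommRingCat.of Ω) ⟶ X} {Z : FEt.Cat X}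
    [NoetherianSpace Z.left] (t t₁ : FEt.fiberObj ξ Z) (h : pt t₁.1 ∈ connectedComponent (pt t.1)) :
    ∃ σ : FEt.piOne X ξ, σ.hom.app Z t = t₁ := by
  haveI : GaloisCategory (FEt.Cat X) := galoisCategory
  obtain ⟨V, j, _, _, hr⟩ := exists_clopenCover (isClopen_component (pt t.1))
  haveI : ConnectedSpace V.left := by
    have hV : _root_.IsConnected (Set.univ : Set V.left) := by
      have h := (isConnected_connectedComponent (x := pt t.1)).preimage_of_isOpenMap
        j.left.isOpenEmbedding.injective j.left.isOpenEmbedding.isOpenMap (hr ▸ subset_rfl)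
      rw [← hr, Set.preimage_range] at h
      exact h
    exact connectedSpace_iff_univ.mpr hV
  haveI := isConnected_of_connectedSpace V
  obtain ⟨a, rfl⟩ := exists_fiber_lift j t (hr ▸ mem_connectedComponent)
  obtain ⟨b, rfl⟩ := exists_fiber_lift j t₁ (hr ▸ h)
  obtain ⟨σ, hσ⟩ := MulAction.exists_smul_eq (Aut (fiberFin ξ))
    (α := (fiberFin ξ).obj V) a b
  refine ⟨toPiOne σ, (congr($((toPiOne σ).hom.naturality j) a)).trans ?_⟩
  exact congrArg ((FEt.fiber ξ).map j) hσ

/-- over a connected base every component of a cover contains fibre points -/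
theorem exists_fiber_point_component [PreconnectedSpace X] (ξ : Spec (CommRingCat.of Ω) ⟶ X)
    {Z : FEt.Cat X} [NoetherianSpace Z.left] (z : Z.left) :
    ∃ t : FEt.fiberObj ξ Z, pt t.1 ∈ connectedComponent z := by
  obtain ⟨y, hy, hyξ⟩ : pt ξ ∈ Z.hom '' connectedComponent z := by
    haveI : PreconnectedSpace ((Functor.fromPUnit X).obj Z.right) := ‹PreconnectedSpace X›
    rw [(isClopen_image Z.hom (isClopen_component z)).eq_univ
      (Set.Nonempty.image _ ⟨z, mem_connectedComponent⟩)]
    trivial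
  obtain ⟨t, ht⟩ := exists_fiber_point ξ Z y hyξ
  exact ⟨t, ht ▸ hy⟩

/-- a stable set for generators is stable for everything -/
theorem stable_of_topGenerates {ξ : Spec (CommRingCat.of Ω) ⟶ X} {T : Set (FEt.piOne X ξ)}
    (hT : PiSp.TopGenerates T) {Z : FEt.Cat X} {A : Set (FEt.fiberObj ξ Z)}
    (hA : ∀ τ ∈ Subgroup.closure T, ∀ s ∈ A, τ.hom.app Z s ∈ A) (σ : FEt.piOne X ξ) :
    ∀ s ∈ A, σ.hom.app Z s ∈ A := by
  intro s hs
  letI : TopologicalSpace (FEt.fiberObj ξ Z → FEt.fiberObj ξ Z) := ⊥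
  have hopen : IsOpen {τ : FEt.piOne X ξ |
      (fun s : FEt.fiberObj ξ Z => τ.hom.app Z s) = fun s => σ.hom.app Z s} := by
    refine (isOpen_induced_iff (t := @Pi.topologicalSpace (FEt.Cat X)
      (fun Z => FEt.fiberObj ξ Z → FEt.fiberObj ξ Z) fun _ => ⊥)).mpr
      ⟨(fun p : (Z : FEt.Cat X) → FEt.fiberObj ξ Z → FEt.fiberObj ξ Z => p Z) ⁻¹'
        {fun s => σ.hom.app Z s}, ?_, rfl⟩
    exact @IsOpen.preimage _ _ (@Pi.topologicalSpace (FEt.Cat X)
      (fun Z => FEt.fiberObj ξ Z → FEt.fiberObj ξ Z) fun _ => ⊥) ⊥ _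
      (@continuous_apply (FEt.Cat X) (fun Z => FEt.fiberObj ξ Z → FEt.fiberObj ξ Z) (fun _ => ⊥) Z) _ trivial
  obtain ⟨τ, hτ, hτT⟩ := Dense.inter_open_nonempty hT _ hopen ⟨σ, rfl⟩
  exact congrFun hτ s ▸ hA τ hτT s hs

/-- transitivity on connected covers implies topological generation -/
theorem topGenerates_of_transitive [ConnectedSpace X] (ξ : Spec (CommRingCat.of Ω) ⟶ X)
    (T : Set (FEt.piOne X ξ))
    (hT : ∀ (Z : FEt.Cat X), PreGaloisCategory.IsConnected Z → ∀ a b : FEt.fiberObj ξ Z,
      ∃ τ ∈ Subgroup.closure T, τ.hom.app Z a = b) : PiSp.TopGenerates T := by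
  haveI : GaloisCategory (FEt.Cat X) := galoisCategory
  have one : ∀ (Z : FEt.Cat X) (σ : FEt.piOne X ξ), ∃ τ ∈ Subgroup.closure T,
      ∀ s, τ.hom.app Z s = σ.hom.app Z s := by
    intro Z σ
    obtain ⟨A, a, _, hbij⟩ := PreGaloisCategory.exists_galois_representative (fiberFin ξ) Z
    obtain ⟨τ, hτ, hτa⟩ := hT A inferInstance a (σ.hom.app A a)
    refine ⟨τ, hτ, fun s => ?_⟩
    obtain ⟨f, rfl⟩ := hbij.2 s
    refine (congr($(τ.hom.naturality f) a)).trans (Eq.trans ?_ (congr($(σ.hom.naturality f) a)).symm)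
    exact congrArg ((FEt.fiber ξ).map f) hτa
  refine dense_iff_inter_open.mpr fun O hO hne => ?_
  obtain ⟨σ, hσ⟩ := hne
  obtain ⟨O', hO', rfl⟩ := (isOpen_induced_iff (t := @Pi.topologicalSpace (FEt.Cat X)
    (fun Z => FEt.fiberObj ξ Z → FEt.fiberObj ξ Z) fun _ => ⊥)).mp hO
  obtain ⟨I, V, hV, hsub⟩ := (@isOpen_pi_iff (FEt.Cat X)
    (fun Z => FEt.fiberObj ξ Z → FEt.fiberObj ξ Z) (fun _ => ⊥) O').mp hO' _ hσ
  let P : FEt.Cat X := ∐ fun Z : I => (Z : FEt.Cat X)
  obtain ⟨τ, hτ, hτP⟩ := one P σ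
  refine ⟨τ, hsub fun Z hZ => ?_, hτ⟩
  suffices h : (fun s : FEt.fiberObj ξ Z => (τ.hom.app Z s : FEt.fiberObj ξ Z)) =
      fun s => σ.hom.app Z s from h.symm.subst (motive := fun f => f ∈ V Z) (hV Z hZ).2
  funext s
  have hinj : Function.Injective ((FEt.fiber ξ).map (Sigma.ι (fun Z : I => (Z : FEt.Cat X)) ⟨Z, hZ⟩)) :=
    haveI := MonoCoprod.mono_ι (fun Z : I => (Z : FEt.Cat X)) ⟨Z, hZ⟩
    (CategoryTheory.mono_iff_injective _).mp (by
      haveI := preservesFiniteLimits_fiber ξ
      infer_instance)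
  apply hinj
  refine (congr($(τ.hom.naturality _) s)).symm.trans ((hτP _).trans ?_)
  exact congr($(σ.hom.naturality _) s)

end Fibre

end Groth.Agent.FEtLib
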