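import Mathlib
import Groth.Agent.Hensel.NormalAscent
import Groth.Agent.FEtLib.Basic
import Groth.Agent.DivPts.NormalIso
import Groth.Prelude.Def_Pi1

/-!
# Finite étale covers of normal schemes

* local rings of étale algebras over normal domains are normal domains;
* `isNormalScheme_of_etale`: étale over normal is normal;
* `isIntegral_of_connected`: connected finite étale covers of normal integral schemes are integral.
-/

set_option autoImplicit false
set_option linter.style.haveILetI false

noncomputable section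

open AlgebraicGeometry CategoryTheory CategoryTheory.Limits Polynomial

namespace Groth.Agent.FEtLib

universe u

theorem eval_scaleRoots_scaleRoots {A : Type u} [CommRing A] (p : A[X]) (r t x : A) :
    ((p.scaleRoots t).scaleRoots r).eval (t * x) = t ^ p.natDegree * (p.scaleRoots r).eval x := by
  rw [← scaleRoots_mul, mul_comm t r, scaleRoots_mul, ← eval₂_id, ← natDegree_scaleRoots p r]
  exact scaleRoots_eval₂_mul (RingHom.id A) x t

section Algebra

variable {R E : Type u} [CommRing R] [IsDomain R] [CommRing E] [Algebra R E]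
  {L : Type u} [CommRing L] [Algebra R L] [Algebra E L] [IsScalarTower R E L]
  (M : Submonoid E) [IsLocalization M L]

include M in
theorem smul_eq_zero_loc [Algebra.Etale R E] {r : R} (hr : r ≠ 0) {x : L} (h : r • x = 0) : x = 0 := by
  obtain ⟨⟨a, s⟩, hs⟩ := IsLocalization.surj M x
  have hu := IsLocalization.map_units L s
  have h1 : algebraMap E L (r • a) = 0 := by
    rw [Algebra.smul_def, map_mul, ← IsScalarTower.algebraMap_apply, ← Algebra.smul_def, ← hs,
      ← smul_mul_assoc, h, zero_mul]
  obtain ⟨m, hm⟩ := (IsLocalization.map_eq_zero_iff M L _).mp h1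
  rw [mul_smul_comm] at hm
  have hreg : IsSMulRegular E r :=
    Module.Flat.isSMulRegular_of_nonZeroDivisors (mem_nonZeroDivisors_of_ne_zero hr)
  have h2 : (m : E) * a = 0 := hreg (hm.trans (smul_zero r).symm)
  have h3 : algebraMap E L a = 0 := (IsLocalization.map_eq_zero_iff M L _).mpr ⟨m, h2⟩
  rw [h3] at hs
  exact hu.mul_left_eq_zero.mp hs

variable [IsIntegrallyClosed R]

include M in
theorem exists_eq_smul_loc [Algebra.Etale R E] {r : R} (hr : r ≠ 0) {h : L} {P : L[X]} (hP : P.Monic)
    (he : (P.scaleRoots (algebraMap R L r)).eval h = 0) : ∃ e, h = r • e := by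
  classical
  nontriviality L
  obtain ⟨t, ht⟩ := IsLocalization.exist_integer_multiples_of_finset M (insert h P.coeffs)
  choose lift hlift using ht
  set φ := algebraMap E L
  have hn : P.natDegree ≠ 0 := by
    intro h0
    rw [hP.natDegree_eq_zero.mp h0] at he
    simp at he
  let t' : L := φ t
  have hmem : P.scaleRoots t' ∈ lifts φ := by
    rw [lifts_iff_coeff_lifts]
    intro i
    rw [coeff_scaleRoots]
    by_cases hi : i < P.natDegree
    · by_cases hc : P.coeff i = 0
      · exact ⟨0, by simp [hc]⟩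
      · refine ⟨lift (P.coeff i) (Finset.mem_insert_of_mem (coeff_mem_coeffs hc)) *
          (t : E) ^ (P.natDegree - i - 1), ?_⟩
        rw [map_mul, map_pow]
        rw [hlift, Algebra.smul_def, show P.natDegree - i = P.natDegree - i - 1 + 1 by omega, pow_succ,
          Nat.add_sub_cancel]
        ring
    · refine ⟨if i = P.natDegree then 1 else 0, ?_⟩
      split_ifs with h'
      · subst h'; simp [hP]
      · simp [coeff_eq_zero_of_natDegree_lt (show P.natDegree < i by omega)]
  obtain ⟨Q, hQ, hQd, hQm⟩ := lifts_and_degree_eq_and_monic hmem ((monic_scaleRoots_iff t').mpr hP)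
  set h0 := lift h (Finset.mem_insert_self _ _)
  have hh0 : φ h0 = t' * h := (hlift h _).trans (Algebra.smul_def _ _)
  have hzero : φ ((Q.scaleRoots (algebraMap R E r)).eval h0) = 0 := by
    rw [← Polynomial.eval_map_apply, Polynomial.map_scaleRoots _ _ _
      (by rw [hQm.leadingCoeff, map_one]; exact one_ne_zero), hQ, ← IsScalarTower.algebraMap_apply,
      hh0, eval_scaleRoots_scaleRoots, he, mul_zero]
  obtain ⟨m, hm⟩ := (IsLocalization.map_eq_zero_iff M L _).mp hzero
  have hQn : Q.natDegree ≠ 0 := by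
    rw [natDegree_eq_of_degree_eq hQd, natDegree_scaleRoots]; exact hn
  obtain ⟨e, he'⟩ := Hensel.exists_eq_smul_of_scaleRoots (R := R) hr (h := (m : E) * h0)
    (P := Q.scaleRoots (m : E)) ((monic_scaleRoots_iff _).mpr hQm) (by
      rw [eval_scaleRoots_scaleRoots]
      obtain ⟨k, hk⟩ := Nat.exists_eq_succ_of_ne_zero hQn
      rw [hk, pow_succ, mul_assoc, hm, mul_zero])
  have hu : IsUnit (φ m * t') := (IsLocalization.map_units L m).mul (IsLocalization.map_units L t)
  refine ⟨↑hu.unit⁻¹ * φ e, hu.mul_left_cancel ?_⟩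
  rw [mul_smul_comm, ← mul_assoc, hu.mul_val_inv, one_mul, mul_assoc, ← hh0, ← map_mul, he',
    Algebra.smul_def, map_mul, ← IsScalarTower.algebraMap_apply, ← Algebra.smul_def]

include M in
theorem exists_mul_eq_loc [IsLocalRing L] [Algebra.Etale R E] {x : L} (hx : x ≠ 0) :
    ∃ (r : R) (v : L), r ≠ 0 ∧ x * v = algebraMap R L r := by
  obtain ⟨⟨a, s⟩, hs⟩ := IsLocalization.surj M x
  obtain ⟨r, v, hr, hv⟩ := Hensel.exists_sq_mul_eq (R := R) a
  set φ := algebraMap E L
  refine ⟨r, φ s * φ v, hr, ?_⟩
  rw [← mul_assoc, hs]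
  set h := φ a * φ v
  have hh : h * h = algebraMap R L r * h := by
    simp only [h, IsScalarTower.algebraMap_apply R E L, φ, ← map_mul]
    congr 1
    rw [← Algebra.smul_def, ← smul_mul_assoc, ← hv]
    ring
  obtain ⟨e, he⟩ := exists_eq_smul_loc M hr (h := h)
    (P := Polynomial.X ^ 2 - Polynomial.X) (by monicity!) (by
      rw [show (Polynomial.X ^ 2 - Polynomial.X : L[X]).scaleRoots (algebraMap R L r) =
        Polynomial.X ^ 2 - C (algebraMap R L r) * Polynomial.X from ?_]
      · simp [pow_two, hh]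
      · have hd : (Polynomial.X ^ 2 - Polynomial.X : L[X]).natDegree = 2 := by
          compute_degree!
        ext i
        rw [coeff_scaleRoots, hd]
        rcases i with _ | _ | _ | i <;> simp [coeff_X, coeff_X_pow])
  have hei : e * e = e := by
    have h1 : r • (r • (e * e - e)) = 0 := by
      rw [he, smul_mul_smul_comm, ← Algebra.smul_def, smul_smul] at hh
      rw [smul_sub, smul_sub, smul_smul, smul_smul, hh, sub_self]
    exact sub_eq_zero.mp (smul_eq_zero_loc M hr (smul_eq_zero_loc M hr h1))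
  rcases IsLocalRing.isUnit_or_isUnit_one_sub_self e with hu | hu
  · change h = _
    rw [he, hu.mul_left_cancel (hei.trans (mul_one e).symm), Algebra.algebraMap_eq_smul_one]
  · exfalso
    have he0 : e = 0 := hu.mul_left_cancel (by rw [sub_mul, one_mul, hei]; simp)
    refine hx (smul_eq_zero_loc M hr ?_)
    have h1 : r • φ a = 0 := by
      rw [← Algebra.algebraMap_self_apply (r • φ a), Algebra.algebraMap_self_apply, Algebra.smul_def,
        IsScalarTower.algebraMap_apply R E L, ← map_mul, ← Algebra.smul_def, ← hv, mul_assoc, map_mul,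
        map_mul]
      show φ a * h = 0
      rw [he, he0, smul_zero, mul_zero]
    rw [← (IsLocalization.map_units L s).mul_left_eq_zero, smul_mul_assoc, hs, h1]

variable (R E L) in
include M in
/-- local rings of étale algebras over normal domains are normal domains -/
theorem isNormal_loc [IsLocalRing L] [Algebra.Etale R E] : IsDomain L ∧ IsIntegrallyClosed L := by
  have hdom : IsDomain L := by
    have : NoZeroDivisors L := ⟨fun {x y} hxy ↦ by
      by_contra! h
      obtain ⟨r, v, hr, hv⟩ := exists_mul_eq_loc (R := R) M h.1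
      refine h.2 (smul_eq_zero_loc M hr ?_)
      rw [Algebra.smul_def, ← hv, mul_right_comm, hxy, zero_mul]⟩
    exact NoZeroDivisors.to_isDomain _
  refine ⟨hdom, (isIntegrallyClosed_iff (FractionRing L)).mpr fun {x} hx ↦ ?_⟩
  obtain ⟨a, b, hb, rfl⟩ := IsFractionRing.div_surjective (A := L) x
  obtain ⟨r, v, hr, hv⟩ := exists_mul_eq_loc (R := R) M (nonZeroDivisors.ne_zero hb)
  obtain ⟨P, hPm, hP⟩ := hx
  set φ := algebraMap L (FractionRing L)
  have hφ : Function.Injective φ := IsFractionRing.injective _ _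
  have hb0 : φ b ≠ 0 := (map_ne_zero_iff _ hφ).mpr (nonZeroDivisors.ne_zero hb)
  have hav : φ (algebraMap R _ r) * (φ a / φ b) = φ (a * v) := by
    rw [← hv, map_mul, map_mul]; field_simp
  obtain ⟨e, he⟩ := exists_eq_smul_loc M hr (h := a * v) hPm (hφ (by
    rw [map_zero, ← Polynomial.eval₂_at_apply, ← hav, scaleRoots_eval₂_mul, hP, mul_zero]))
  refine ⟨e, mul_left_cancel₀ (a := φ (algebraMap R _ r)) ?_ ?_⟩
  · rw [map_ne_zero_iff _ hφ]
    intro h0
    exact one_ne_zero (smul_eq_zero_loc M hr (x := (1 : L)) (by rw [Algebra.smul_def, h0, zero_mul]))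
  · rw [hav, ← map_mul, ← Algebra.smul_def, ← he]

end Algebra

section Scheme

variable {X Y : Scheme.{u}}

/-- étale over normal integral is normal -/
theorem isNormalScheme_of_etale [IsIntegral X] (hX : Pi1.IsNormalScheme X) (f : Y ⟶ X) [Etale f] :
    Pi1.IsNormalScheme Y := by
  intro y
  obtain ⟨U, hU, hxU, -⟩ := TopologicalSpace.Opens.isBasis_iff_nbhd.mp X.isBasis_affineOpens
    (show f y ∈ (⊤ : X.Opens) from trivial)
  obtain ⟨V, hV, hyV, hVU⟩ := TopologicalSpace.Opens.isBasis_iff_nbhd.mp Y.isBasis_affineOpens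
    (show y ∈ f ⁻¹ᵁ U from hxU)
  haveI : Nonempty U := ⟨⟨f y, hxU⟩⟩
  haveI := DivPts.isIntegrallyClosed_sections hX hU
  letI := (f.appLE U V hVU).hom.toAlgebra
  haveI : Algebra.Etale Γ(X, U) Γ(Y, V) := f.etale_appLE hU hV hVU
  letI := TopCat.Presheaf.algebra_section_stalk Y.presheaf (⟨y, hyV⟩ : V)
  haveI := hV.isLocalization_stalk ⟨y, hyV⟩
  letI : Algebra Γ(X, U) (Y.presheaf.stalk y) :=
    ((algebraMap Γ(Y, V) (Y.presheaf.stalk y)).comp (algebraMap Γ(X, U) Γ(Y, V))).toAlgebra
  haveI : IsScalarTower Γ(X, U) Γ(Y, V) (Y.presheaf.stalk y) := IsScalarTower.of_algebraMap_eq' rfl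
  exact isNormal_loc Γ(X, U) Γ(Y, V) (Y.presheaf.stalk y) (hV.primeIdealOf ⟨y, hyV⟩).asIdeal.primeCompl

theorem irreducible_generization {T : Scheme.{u}} (h : ∀ t : T, IsDomain (T.presheaf.stalk t)) (y : T) :
    ∃ g : T, g ⤳ y ∧ ∀ z : T, z ⤳ y → g ⤳ z := by
  haveI := h y
  refine ⟨T.fromSpecStalk y ⟨⊥, Ideal.isPrime_bot⟩, ?_, fun z hz => ?_⟩
  · have : T.fromSpecStalk y ⟨⊥, Ideal.isPrime_bot⟩ ∈ Set.range (T.fromSpecStalk y) := ⟨_, rfl⟩
    rwa [Scheme.range_fromSpecStalk] at this
  · obtain ⟨p, rfl⟩ : z ∈ Set.range (T.fromSpecStalk y) := by rwa [Scheme.range_fromSpecStalk]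
    exact Specializes.map ((PrimeSpectrum.le_iff_specializes _ _).mp (bot_le (a := p.asIdeal)))
      (T.fromSpecStalk y).continuous

/-- connected finite étale covers of normal integral schemes are integral -/
theorem isIntegral_of_connected [IsIntegral X] (hX : Pi1.IsNormalScheme X) (f : Y ⟶ X) [IsFinite f]
    [Etale f] [ConnectedSpace Y] : IsIntegral Y := by
  have hd : ∀ t : Y, IsDomain (Y.presheaf.stalk t) := fun t => (isNormalScheme_of_etale hX f t).1
  haveI : IsReduced Y := by
    haveI : ∀ t : Y, _root_.IsReduced (Y.presheaf.stalk t) := fun t => haveI := hd t; inferInstance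
    exact isReduced_of_isReduced_stalk Y
  choose g hg hmin using irreducible_generization hd
  have hfin : (Set.range g).Finite := by
    refine (f.finite_preimage_singleton (genericPoint X)).subset ?_
    rintro _ ⟨y, rfl⟩
    obtain ⟨z, hz, hfz⟩ := Flat.generalizingMap f
      ((genericPoint_spec X).specializes (Set.mem_univ (f (g y))))
    have : z = g y := (hz.antisymm (hmin y z (hz.trans (hg y)))).eq
    exact this ▸ hfz
  have hfix : ∀ y y', g y ⤳ y' → g y' = g y := fun y y' h =>
    ((hmin y' _ h).antisymm (hmin y _ ((hmin y' _ h).trans (hg y)))).eq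
  let y₀ : Y := Classical.arbitrary Y
  have hclop : IsClopen (closure {g y₀}) := by
    refine ⟨isClosed_closure, isClosed_compl_iff.mp ?_⟩
    have : (closure {g y₀})ᶜ = ⋃ a ∈ Set.range g \ {g y₀}, closure {a} := by
      ext y
      simp only [Set.mem_compl_iff, Set.mem_iUnion, exists_prop, ← specializes_iff_mem_closure]
      refine ⟨fun h => ⟨g y, ⟨⟨y, rfl⟩, fun e => h ((Set.mem_singleton_iff.mp e) ▸ hg y)⟩, hg y⟩, ?_⟩
      rintro ⟨_, ⟨⟨z, rfl⟩, hne⟩, hzy⟩ hy
      exact hne (Set.mem_singleton_iff.mpr ((hfix z y hzy).symm.trans (hfix y₀ y hy)))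
    rw [this]
    exact (hfin.subset Set.sdiff_subset).isClosed_biUnion fun _ _ => isClosed_closure
  haveI : IrreducibleSpace Y := (irreducibleSpace_def _).mpr
    (by rw [Set.top_eq_univ, ← hclop.eq_univ ⟨g y₀, subset_closure rfl⟩]
        exact isIrreducible_singleton.closure)
  exact isIntegral_of_irreducibleSpace_of_isReduced Y

end Scheme

end Groth.Agent.FEtLib
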