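import Mathlib
import Groth.Agent.FEtLib.Normal
import Groth.Agent.FEtLib.FullCrit

/-! Restriction to subspaces containing the generic point of a normal integral scheme. -/

set_option autoImplicit false
set_option linter.style.haveILetI false

noncomputable section

open AlgebraicGeometry CategoryTheory CategoryTheory.Limits

namespace Groth.Agent.FEtLib

universe u

theorem full_faithful_of_normal {X X' : Scheme.{u}} [IsIntegral X] (hX : Pi1.IsNormalScheme X)
    (f : X' ⟶ X) [IsPreimmersion f] (hη : genericPoint X ∈ Set.range f) :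
    (FEt.restrict f).Full ∧ (FEt.restrict f).Faithful := by
  refine full_faithful_restrict f (fun W hW hne => ⟨genericPoint X, by rw [hW.eq_univ hne]; trivial, hη⟩)
    fun Z W hW => ?_
  obtain ⟨hfin, hgen⟩ := exists_gen_fiber Z
  choose g hg hmin using irreducible_generization (fun t => (isNormalScheme_of_etale hX Z.hom t).1)
  have hconst : ∀ a b : Z.left, a ⤳ b → g a = g b := fun a b h => by
    have h1 : g a ⤳ g b := hmin a _ ((hmin b a h))
    have h2 : g b ⤳ g a := hmin b _ ((hg a).trans h)
    exact (h1.antisymm h2).eq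
  have hover : ∀ y, Z.hom (g y) = genericPoint X := fun y => by
    obtain ⟨z, hz, hzy⟩ := hgen y
    have h := (hmin y z hzy).map Z.hom.continuous
    rw [hz] at h
    exact (h.antisymm ((genericPoint_spec X).specializes (Set.mem_univ _))).eq
  let e := pullback.fst Z.hom f
  have hrange : ∀ y, g y ∈ Set.range e := fun y => by
    obtain ⟨x', hx'⟩ := hη
    obtain ⟨p, hp, -⟩ := Scheme.Pullback.exists_preimage_pullback (f := Z.hom) (g := f) (g y) x'
      ((hover y).trans hx'.symm)
    exact ⟨p, hp⟩
  have hemb : Topology.IsEmbedding e := e.isEmbedding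
  refine ⟨{y | g y ∈ e '' W}, isClopen_of_stable hfin hgen
    (fun a b h => by show g a ∈ e '' W ↔ g b ∈ e '' W; rw [hconst a b h]), ?_⟩
  ext p
  obtain ⟨p₀, hp₀⟩ := hrange (e p)
  have hsp : p₀ ⤳ p := hemb.isInducing.specializes_iff.mp (hp₀ ▸ hg (e p))
  show g (e p) ∈ e '' W ↔ p ∈ W
  rw [← hp₀, hemb.injective.mem_set_image]
  exact ⟨fun h => hsp.mem_closed hW.1 h, fun h => hsp.mem_open hW.2 h⟩

end Groth.Agent.FEtLib
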