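import Mathlib
import Groth.Agent.FEtLib.Monodromy
import Groth.Agent.GalDict.Exact

/-!
# Topological finite generation descends along proper surjective morphisms
-/

set_option autoImplicit false
set_option linter.style.haveILetI false

noncomputable section

open AlgebraicGeometry CategoryTheory CategoryTheory.Limits TopologicalSpace

namespace Groth.Agent.FEtLib

universe u

variable {S : Scheme.{u}}

/-- fibre functors at equal points -/
def fiberCongr {Ω : Type u} [Field Ω] {ξ ξ' : Spec (CommRingCat.of Ω) ⟶ S} (h : ξ = ξ') :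
    FEt.fiber ξ ≅ FEt.fiber ξ' :=
  eqToIso (by rw [h])

theorem fiberCongr_val {Ω : Type u} [Field Ω] {ξ ξ' : Spec (CommRingCat.of Ω) ⟶ S} (h : ξ = ξ')
    (Z : FEt.Cat S) (s : FEt.fiberObj ξ Z) : ((fiberCongr h).hom.app Z s).1 = s.1 := by
  subst h; rfl

theorem nonempty_fiberIso [ConnectedSpace S] {Ω Ω' : Type u} [Field Ω] [IsAlgClosed Ω] [Field Ω']
    [IsAlgClosed Ω'] (ξ : Spec (CommRingCat.of Ω) ⟶ S) (ξ' : Spec (CommRingCat.of Ω') ⟶ S) :
    Nonempty (FEt.fiber ξ ≅ FEt.fiber ξ') := by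
  haveI : GaloisCategory (FEt.Cat S) := galoisCategory
  haveI := preservesFiniteColimits_fiberFin ξ
  haveI := preservesFiniteLimits_fiberFin ξ
  obtain ⟨e⟩ := Groth.Agent.GalDict.nonempty_iso (fiberFin ξ') (fiberFin ξ)
    (fun Y hY => Groth.Agent.GalDict.nonempty_of_exact (fiberFin ξ') (fiberFin ξ) Y hY)
  exact ⟨(fiberFinIso ξ).symm ≪≫ Functor.isoWhiskerRight e FintypeCat.incl ≪≫ fiberFinIso ξ'⟩

section Transport

variable {C : Scheme.{u}} (h : C ⟶ S) {Ω : Type u} [Field Ω] [IsAlgClosed Ω]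
  (ξ : Spec (CommRingCat.of Ω) ⟶ S)
  {Ω' : Type u} [Field Ω'] [IsAlgClosed Ω'] {η : Spec (CommRingCat.of Ω') ⟶ C}

/-- transport of an automorphism along `h` and an identification of fibre functors -/
def push (α : FEt.fiber (η ≫ h) ≅ FEt.fiber ξ) : FEt.piOne C η →* FEt.piOne S ξ :=
  α.conjAut.toMonoidHom.comp ((fiberRestrictIso h η).conjAut.toMonoidHom.comp
    (((Functor.whiskeringLeft _ _ _).obj (FEt.restrict h)).mapAut (FEt.fiber η)))

theorem stable_push (α : FEt.fiber (η ≫ h) ≅ FEt.fiber ξ) (σ : FEt.piOne C η) (Z : FEt.Cat S)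
    (A : Set (FEt.fiberObj ξ Z)) (hA : ∀ a ∈ A, (push h ξ α σ).hom.app Z a ∈ A)
    (t : FEt.fiberObj η ((FEt.restrict h).obj Z))
    (ht : α.hom.app Z ((fiberRestrictIso h η).hom.app Z t) ∈ A) :
    α.hom.app Z ((fiberRestrictIso h η).hom.app Z (σ.hom.app ((FEt.restrict h).obj Z) t)) ∈ A := by
  have h1 : α.hom.app Z ((fiberRestrictIso h η).hom.app Z (σ.hom.app ((FEt.restrict h).obj Z)
      ((fiberRestrictIso h η).inv.app Z (α.inv.app Z
        (α.hom.app Z ((fiberRestrictIso h η).hom.app Z t)))))) ∈ A := hA _ ht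
  erw [Iso.hom_inv_id_app_apply, Iso.hom_inv_id_app_apply] at h1
  exact h1

end Transport

theorem exists_finset_components {α : Type u} [TopologicalSpace α] [NoetherianSpace α] :
    ∃ t : Finset α, ∀ x, ∃ y ∈ t, x ∈ connectedComponent y := by
  obtain ⟨t, ht⟩ := isCompact_univ.elim_finite_subcover (fun y : α => connectedComponent y)
    (fun y => (isClopen_component y).2) fun x _ => Set.mem_iUnion.mpr ⟨x, mem_connectedComponent⟩
  exact ⟨t, fun x => by simpa using ht (Set.mem_univ x)⟩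

theorem isClopen_of_components {α : Type u} [TopologicalSpace α] [NoetherianSpace α] {W : Set α}
    (h : ∀ x ∈ W, connectedComponent x ⊆ W) : IsClopen W := by
  refine ⟨isOpen_compl_iff.mp ?_, ?_⟩
  · rw [isOpen_iff_forall_mem_open]
    exact fun x hx => ⟨connectedComponent x, fun y hy hyW =>
      hx (h y hyW (connectedComponent_eq hy ▸ mem_connectedComponent)),
      (isClopen_component x).2, mem_connectedComponent⟩
  · rw [isOpen_iff_forall_mem_open]
    exact fun x hx => ⟨connectedComponent x, h x hx, (isClopen_component x).2, mem_connectedComponent⟩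

theorem preconnected_of_isConnected [ConnectedSpace S] (Z : FEt.Cat S)
    [PreGaloisCategory.IsConnected Z] : PreconnectedSpace Z.left := by
  haveI : GaloisCategory (FEt.Cat S) := galoisCategory
  obtain ⟨Ω, _, _, ξ, -⟩ := exists_geomPoint (Classical.arbitrary S)
  refine preconnectedSpace_iff_clopen.mpr fun W hW => ?_
  by_contra hne
  push Not at hne
  obtain ⟨hne0, hne1⟩ := hne
  obtain ⟨V, j, _, _, hr⟩ := exists_clopenCover hW
  obtain ⟨y, hy, hyξ⟩ : pt ξ ∈ Z.hom '' W := by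
    haveI : PreconnectedSpace ((Functor.fromPUnit S).obj Z.right) :=
      (inferInstance : PreconnectedSpace S)
    rw [(isClopen_image Z.hom hW).eq_univ (hne0.image _)]
    trivial
  obtain ⟨t, ht⟩ := exists_fiber_point ξ Z y hyξ
  obtain ⟨t', -⟩ := exists_fiber_lift j t (hr ▸ ht ▸ hy)
  haveI : IsIso j := PreGaloisCategory.IsConnected.noTrivialComponent V j fun hI =>
    PreGaloisCategory.not_initial_of_inhabited (fiberFin ξ) (X := V) t' hI
  refine hne1 (hr ▸ Set.eq_univ_of_forall fun z => ⟨(inv j).left z, ?_⟩)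
  have : (inv j).left ≫ j.left = 𝟙 _ := congrArg (fun m => m.left) (IsIso.inv_hom_id j)
  exact (Scheme.Hom.comp_apply _ _ _).symm.trans (congr($this z))

/-- first projection from a pullback over a double overlap -/
def proj₁ {A B Z : Scheme.{u}} (h₁ : A ⟶ S) (h₂ : B ⟶ S) (z : Z ⟶ S) :
    pullback z (pullback.fst h₁ h₂ ≫ h₁) ⟶ pullback z h₁ :=
  pullback.lift (pullback.fst _ _) (pullback.snd _ _ ≫ pullback.fst _ _)
    (pullback.condition.trans (Category.assoc _ _ _).symm)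

/-- second projection from a pullback over a double overlap -/
def proj₂ {A B Z : Scheme.{u}} (h₁ : A ⟶ S) (h₂ : B ⟶ S) (z : Z ⟶ S) :
    pullback z (pullback.fst h₁ h₂ ≫ h₁) ⟶ pullback z h₂ :=
  pullback.lift (pullback.fst _ _) (pullback.snd _ _ ≫ pullback.snd _ _)
    (pullback.condition.trans (by rw [Category.assoc, pullback.condition]))

theorem exists_common {A B Z : Scheme.{u}} (h₁ : A ⟶ S) (h₂ : B ⟶ S) (z : Z ⟶ S)
    (z₁ : ↥(pullback z h₁)) (z₂ : ↥(pullback z h₂))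
    (hz : pullback.fst z h₁ z₁ = pullback.fst z h₂ z₂) :
    ∃ u, proj₁ h₁ h₂ z u = z₁ ∧ proj₂ h₁ h₂ z u = z₂ := by
  let a := pullback.fst (pullback.fst z h₁) (pullback.fst z h₂)
  let b := pullback.snd (pullback.fst z h₁) (pullback.fst z h₂)
  have hab : a ≫ pullback.fst z h₁ = b ≫ pullback.fst z h₂ := pullback.condition
  have hc : (a ≫ pullback.snd z h₁) ≫ h₁ = (b ≫ pullback.snd z h₂) ≫ h₂ := by
    have := congrArg (· ≫ z) hab
    simp only [Category.assoc, pullback.condition] at this ⊢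
    exact this
  let inner := pullback.lift (a ≫ pullback.snd z h₁) (b ≫ pullback.snd z h₂) hc
  have hq : (a ≫ pullback.fst z h₁) ≫ z = inner ≫ pullback.fst h₁ h₂ ≫ h₁ := by
    rw [pullback.lift_fst_assoc, Category.assoc, Category.assoc, pullback.condition]
  let q := pullback.lift (a ≫ pullback.fst z h₁) inner hq
  obtain ⟨u, hu₁, hu₂⟩ := Scheme.Pullback.exists_preimage_pullback
    (f := pullback.fst z h₁) (g := pullback.fst z h₂) z₁ z₂ hz
  have e₁ : q ≫ proj₁ h₁ h₂ z = a := by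
    apply pullback.hom_ext
    · rw [proj₁, Category.assoc, pullback.lift_fst]; exact pullback.lift_fst _ _ _
    · rw [proj₁, Category.assoc, pullback.lift_snd, ← Category.assoc, pullback.lift_snd]
      exact pullback.lift_fst _ _ _
  have e₂ : q ≫ proj₂ h₁ h₂ z = b := by
    apply pullback.hom_ext
    · rw [proj₂, Category.assoc, pullback.lift_fst]; exact (pullback.lift_fst _ _ _).trans hab
    · rw [proj₂, Category.assoc, pullback.lift_snd, ← Category.assoc, pullback.lift_snd]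
      exact pullback.lift_snd _ _ _
  exact ⟨q u, ((Scheme.Hom.comp_apply _ _ _).symm.trans (congr($e₁ u))).trans hu₁,
    ((Scheme.Hom.comp_apply _ _ _).symm.trans (congr($e₂ u))).trans hu₂⟩

theorem exists_lift_pullback {P V Z : Scheme.{u}} (ι : V ⟶ P) (p : P ⟶ S) (z : Z ⟶ S)
    (x : ↥(pullback z p)) (v : V) (hv : ι v = pullback.snd z p x) :
    ∃ w, pullback.lift (f := z) (g := p) (pullback.fst z (ι ≫ p)) (pullback.snd z (ι ≫ p) ≫ ι)
      (pullback.condition.trans (Category.assoc _ _ _).symm) w = x := by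
  have hsq : IsPullback (pullback.lift (f := z) (g := p) (pullback.fst z (ι ≫ p))
      (pullback.snd z (ι ≫ p) ≫ ι) (pullback.condition.trans (Category.assoc _ _ _).symm))
      (pullback.snd z (ι ≫ p)) (pullback.snd z p) ι := by
    refine IsPullback.of_right ?_ (pullback.lift_snd _ _ _) (IsPullback.of_hasPullback z p)
    rw [pullback.lift_fst]
    exact IsPullback.of_hasPullback z (ι ≫ p)
  obtain ⟨w, hw, -⟩ := Scheme.exists_preimage_of_isPullback hsq x v hv.symm
  exact ⟨w, hw⟩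

/-- the target statement -/
theorem exists_topGenerates {S' : Scheme.{u}} [IsNoetherian S] [ConnectedSpace S] (g : S' ⟶ S)
    [IsProper g] [Surjective g]
    (hfg : ∀ (C : S'.Opens), IsClosed (C : Set S') → ConnectedSpace C →
      ∀ (Ω : Type u) [Field Ω] [IsAlgClosed Ω] (η : Spec (CommRingCat.of Ω) ⟶ (C : Scheme.{u})),
        ∃ F : Finset (FEt.piOne (C : Scheme.{u}) η), PiSp.TopGenerates (F : Set (FEt.piOne (C : Scheme.{u}) η)))
    {Ω : Type u} [Field Ω] [IsAlgClosed Ω] (ξ : Spec (CommRingCat.of Ω) ⟶ S) :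
    ∃ F : Finset (FEt.piOne S ξ), PiSp.TopGenerates (F : Set (FEt.piOne S ξ)) := by
  classical
  haveI : NoetherianSpace S' := noetherianSpace_of_finiteType g
  obtain ⟨t₀, ht₀⟩ := exists_finset_components (α := S')
  let Cc : S' → S'.Opens := fun y => ⟨connectedComponent y, (isClopen_component y).2⟩
  have hCconn : ∀ y, ConnectedSpace (Cc y) := fun y =>
    isConnected_iff_connectedSpace.mp isConnected_connectedComponent
  haveI hCcl : ∀ y, IsClosedImmersion (Cc y).ι := fun y =>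
    IsClosedImmersion.of_isPreimmersion _ (by rw [Scheme.Opens.range_ι]; exact (isClopen_component y).1)
  let h : (i : t₀) → (Cc i.1).toScheme ⟶ S := fun i => (Cc i.1).ι ≫ g
  have hgp : ∀ i : t₀, ∃ (O : Type u) (_ : Field O) (_ : IsAlgClosed O),
      Nonempty (Spec (CommRingCat.of O) ⟶ (Cc i.1).toScheme) := fun i => by
    haveI := hCconn i.1
    obtain ⟨O, i1, i2, η, -⟩ := exists_geomPoint (X := (Cc i.1).toScheme) (Classical.arbitrary _)
    exact ⟨O, i1, i2, ⟨η⟩⟩
  choose Om fOm aOm hη using hgp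
  let η := fun i => (hη i).some
  choose G hG using fun i : t₀ => hfg (Cc i.1) (isClopen_component i.1).1 (hCconn i.1) (Om i) (η i)
  let α := fun i : t₀ => (nonempty_fiberIso (η i ≫ h i) ξ).some
  -- the double overlaps
  haveI hP : ∀ p : t₀ × t₀, NoetherianSpace ↥(pullback (h p.1) (h p.2)) := fun p =>
    noetherianSpace_of_finiteType (pullback.fst (h p.1) (h p.2) ≫ h p.1)
  choose t₁ ht₁ using fun p : t₀ × t₀ =>
    exists_finset_components (α := ↥(pullback (h p.1) (h p.2)))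
  let Dc : (p : t₀ × t₀) → t₁ p → (pullback (h p.1) (h p.2)).Opens :=
    fun p y => ⟨connectedComponent y.1, (isClopen_component y.1).2⟩
  have hDconn : ∀ p y, ConnectedSpace (Dc p y) := fun p y =>
    isConnected_iff_connectedSpace.mp isConnected_connectedComponent
  have hgd : ∀ (p : t₀ × t₀) (y : t₁ p), ∃ (O : Type u) (_ : Field O) (_ : IsAlgClosed O),
      Nonempty (Spec (CommRingCat.of O) ⟶ (Dc p y).toScheme) := fun p y => by
    haveI := hDconn p y
    obtain ⟨O, i1, i2, δ, -⟩ := exists_geomPoint (X := (Dc p y).toScheme) (Classical.arbitrary _)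
    exact ⟨O, i1, i2, ⟨δ⟩⟩
  choose Od fOd aOd hδ using hgd
  let δ := fun p y => (hδ p y).some
  let β₁ := fun (p : t₀ × t₀) (y : t₁ p) => (@nonempty_fiberIso _ (hCconn p.1.1) _ _ _ _ _ _
    (δ p y ≫ (Dc p y).ι ≫ pullback.fst (h p.1) (h p.2)) (η p.1)).some
  let β₂ := fun (p : t₀ × t₀) (y : t₁ p) => (@nonempty_fiberIso _ (hCconn p.2.1) _ _ _ _ _ _
    (δ p y ≫ (Dc p y).ι ≫ pullback.snd (h p.1) (h p.2)) (η p.2)).some
  let e₁ : (p : t₀ × t₀) → (y : t₁ p) →
      (FEt.fiber ((δ p y ≫ (Dc p y).ι ≫ pullback.fst (h p.1) (h p.2)) ≫ h p.1) ≅ FEt.fiber ξ) :=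
    fun p y => (fiberRestrictIso (h p.1) _).symm ≪≫
      Functor.isoWhiskerLeft (FEt.restrict (h p.1)) (β₁ p y) ≪≫ fiberRestrictIso (h p.1) (η p.1) ≪≫ α p.1
  let e₂ : (p : t₀ × t₀) → (y : t₁ p) →
      (FEt.fiber ((δ p y ≫ (Dc p y).ι ≫ pullback.snd (h p.1) (h p.2)) ≫ h p.2) ≅ FEt.fiber ξ) :=
    fun p y => (fiberRestrictIso (h p.2) _).symm ≪≫
      Functor.isoWhiskerLeft (FEt.restrict (h p.2)) (β₂ p y) ≪≫ fiberRestrictIso (h p.2) (η p.2) ≪≫ α p.2
  have heq : ∀ (p : t₀ × t₀) (y : t₁ p),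
      (δ p y ≫ (Dc p y).ι ≫ pullback.fst (h p.1) (h p.2)) ≫ h p.1 =
        (δ p y ≫ (Dc p y).ι ≫ pullback.snd (h p.1) (h p.2)) ≫ h p.2 := fun p y => by
    simp only [Category.assoc, pullback.condition]
  let c : (Σ p : t₀ × t₀, t₁ p) → FEt.piOne S ξ := fun q =>
    (e₁ q.1 q.2).symm ≪≫ fiberCongr (heq q.1 q.2) ≪≫ e₂ q.1 q.2
  let T : Set (FEt.piOne S ξ) :=
    (⋃ i : t₀, push (h i) ξ (α i) '' (G i : Set _)) ∪ Set.range c
  have hTfin : T.Finite :=
    (Set.finite_iUnion fun i => (G i).finite_toSet.image _).union (Set.finite_range c)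
  refine ⟨hTfin.toFinset, ?_⟩
  rw [Set.Finite.coe_toFinset]
  refine topGenerates_of_transitive ξ T fun Z _ a b => ?_
  haveI hZ : PreconnectedSpace Z.left := preconnected_of_isConnected Z
  let A : Set (FEt.fiberObj ξ Z) := {s | ∃ τ ∈ Subgroup.closure T, τ.hom.app Z a = s}
  have hA : ∀ τ ∈ Subgroup.closure T, ∀ s ∈ A, τ.hom.app Z s ∈ A := fun τ hτ s ⟨τ', hτ', hs⟩ =>
    ⟨τ * τ', mul_mem hτ hτ', hs ▸ rfl⟩
  -- pulled back stable sets
  let Zi : (i : t₀) → FEt.Cat (Cc i.1).toScheme := fun i => (FEt.restrict (h i)).obj Z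
  haveI hZi : ∀ i, NoetherianSpace (Zi i).left := fun i =>
    noetherianSpace_of_finiteType ((Zi i).hom ≫ h i)
  let Ai : (i : t₀) → Set (FEt.fiberObj (η i) (Zi i)) := fun i =>
    {t | (α i).hom.app Z ((fiberRestrictIso (h i) (η i)).hom.app Z t) ∈ A}
  have hAi : ∀ i (σ : FEt.piOne (Cc i.1).toScheme (η i)), ∀ t ∈ Ai i, σ.hom.app (Zi i) t ∈ Ai i := by
    intro i σ
    refine stable_of_topGenerates (hG i) (fun τ hτ t ht => ?_) σ
    refine stable_push (h i) ξ (α i) τ Z A (hA _ ?_) t ht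
    have : Subgroup.map (push (h i) ξ (α i)) (Subgroup.closure (G i : Set _)) ≤ Subgroup.closure T := by
      rw [MonoidHom.map_closure]
      exact Subgroup.closure_mono fun x hx => Or.inl (Set.mem_iUnion.mpr ⟨i, hx⟩)
    exact this ⟨τ, hτ, rfl⟩
  let W : (i : t₀) → Set (Zi i).left := fun i =>
    {z | ∃ t ∈ Ai i, z ∈ connectedComponent (pt t.1)}
  have hW : ∀ i, IsClopen (W i) := fun i => isClopen_of_components fun z ⟨t, ht, hz⟩ x hx =>
    ⟨t, ht, connectedComponent_eq hz ▸ hx⟩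
  have hWpt : ∀ i (t : FEt.fiberObj (η i) (Zi i)), pt t.1 ∈ W i → t ∈ Ai i := by
    rintro i t ⟨t', ht', hz⟩
    haveI := hCconn i.1
    obtain ⟨σ, rfl⟩ := exists_smul_of_component t' t hz
    exact hAi i σ t' ht'
  have hWcomp : ∀ i {Ω' : Type u} [Field Ω'] [IsAlgClosed Ω'] (θ : Spec (CommRingCat.of Ω') ⟶ (Cc i.1).toScheme)
      (β : FEt.fiber θ ≅ FEt.fiber (η i)) (z : (Zi i).left) (y : FEt.fiberObj θ (Zi i)),
      pt y.1 ∈ connectedComponent z → (z ∈ W i ↔ β.hom.app (Zi i) y ∈ Ai i) := by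
    intro i Ω' _ _ θ β z y hy
    have hc : connectedComponent (pt (β.hom.app (Zi i) y).1) = connectedComponent z :=
      (component_natTrans β.hom y).trans (connectedComponent_eq hy).symm
    refine ⟨fun ⟨t, ht, hz⟩ => hWpt i _ ⟨t, ht, ?_⟩, fun hy' => ⟨_, hy', hc ▸ mem_connectedComponent⟩⟩
    rw [connectedComponent_eq hz, ← hc]
    exact mem_connectedComponent
  haveI hqc : ∀ i, IsProper (pullback.fst Z.hom (h i)) := fun i => inferInstance
  let U : Set Z.left := ⋃ i, pullback.fst Z.hom (h i) '' W i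
  let U' : Set Z.left := ⋃ i, pullback.fst Z.hom (h i) '' (W i)ᶜ
  have hU : IsClosed U := isClosed_iUnion_of_finite fun i =>
    (pullback.fst Z.hom (h i)).isClosedMap _ (hW i).1
  have hU' : IsClosed U' := isClosed_iUnion_of_finite fun i =>
    (pullback.fst Z.hom (h i)).isClosedMap _ (hW i).compl.1
  have hcov : U ∪ U' = Set.univ := Set.eq_univ_of_forall fun z => by
    obtain ⟨x', hx'⟩ := g.surjective (Z.hom z)
    obtain ⟨y, hy, hyx⟩ := ht₀ x'
    obtain ⟨w, hw, -⟩ := Scheme.Pullback.exists_preimage_pullback (f := Z.hom) (g := h ⟨y, hy⟩) z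
      (⟨x', hyx⟩ : Cc y) (hx'.symm.trans (Scheme.Hom.comp_apply (Cc y).ι g ⟨x', hyx⟩).symm)
    by_cases hwW : w ∈ W ⟨y, hy⟩
    · exact .inl (Set.mem_iUnion.mpr ⟨⟨y, hy⟩, w, hwW, hw⟩)
    · exact .inr (Set.mem_iUnion.mpr ⟨⟨y, hy⟩, w, hwW, hw⟩)
  have hdisj : ∀ z ∈ U, z ∉ U' := by
    rintro z hz hz'
    obtain ⟨i, z₁, hz₁, hq₁⟩ := Set.mem_iUnion.mp hz
    obtain ⟨j, z₂, hz₂, hq₂⟩ := Set.mem_iUnion.mp hz'
    let p : t₀ × t₀ := (i, j)
    obtain ⟨u, hu₁, hu₂⟩ := exists_common (h i) (h j) Z.hom z₁ z₂ (hq₁.trans hq₂.symm)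
    obtain ⟨y, hy, hyu⟩ := ht₁ p (pullback.snd Z.hom (pullback.fst (h i) (h j) ≫ h i) u)
    let yy : t₁ p := ⟨y, hy⟩
    haveI := hDconn p yy
    haveI : IsClosedImmersion (Dc p yy).ι :=
      IsClosedImmersion.of_isPreimmersion _ (by rw [Scheme.Opens.range_ι]; exact (isClopen_component y).1)
    let b : (Dc p yy).toScheme ⟶ S := (Dc p yy).ι ≫ pullback.fst (h i) (h j) ≫ h i
    haveI : NoetherianSpace ((FEt.restrict b).obj Z).left :=
      noetherianSpace_of_finiteType (((FEt.restrict b).obj Z).hom ≫ b)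
    let r : pullback Z.hom b ⟶ pullback Z.hom (pullback.fst (h i) (h j) ≫ h i) :=
      pullback.lift (pullback.fst _ _) (pullback.snd _ _ ≫ (Dc p yy).ι)
        (pullback.condition.trans (Category.assoc _ _ _).symm)
    let π₁ := r ≫ proj₁ (h i) (h j) Z.hom
    let π₂ := r ≫ proj₂ (h i) (h j) Z.hom
    obtain ⟨w, hw⟩ := exists_lift_pullback (Dc p yy).ι (pullback.fst (h i) (h j) ≫ h i) Z.hom u
      (⟨_, hyu⟩ : Dc p yy) rfl
    have hπ₁ : π₁ w = z₁ :=
      (Scheme.Hom.comp_apply _ _ _).trans ((congrArg (proj₁ (h i) (h j) Z.hom) hw).trans hu₁)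
    have hπ₂ : π₂ w = z₂ :=
      (Scheme.Hom.comp_apply _ _ _).trans ((congrArg (proj₂ (h i) (h j) Z.hom) hw).trans hu₂)
    have hs₁ : π₁ ≫ pullback.snd Z.hom (h i) =
        pullback.snd Z.hom b ≫ (Dc p yy).ι ≫ pullback.fst (h i) (h j) := by
      simp only [π₁, r, proj₁, Category.assoc, pullback.lift_snd, pullback.lift_snd_assoc]
    have hs₂ : π₂ ≫ pullback.snd Z.hom (h j) =
        pullback.snd Z.hom b ≫ (Dc p yy).ι ≫ pullback.snd (h i) (h j) := by
      simp only [π₂, r, proj₂, Category.assoc, pullback.lift_snd, pullback.lift_snd_assoc]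
    have hf : π₁ ≫ pullback.fst Z.hom (h i) = π₂ ≫ pullback.fst Z.hom (h j) := by
      simp only [π₁, π₂, r, proj₁, proj₂, Category.assoc, pullback.lift_fst]
    obtain ⟨v, hv⟩ := exists_fiber_point_component (δ p yy) (Z := (FEt.restrict b).obj Z) w
    let v₁ : FEt.fiberObj (δ p yy ≫ (Dc p yy).ι ≫ pullback.fst (h i) (h j)) (Zi i) :=
      ⟨v.1 ≫ π₁, (Category.assoc _ _ _).trans ((congrArg (v.1 ≫ ·) hs₁).trans
        ((Category.assoc _ _ _).symm.trans (congrArg (· ≫ _) v.2)))⟩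
    let v₂ : FEt.fiberObj (δ p yy ≫ (Dc p yy).ι ≫ pullback.snd (h i) (h j)) (Zi j) :=
      ⟨v.1 ≫ π₂, (Category.assoc _ _ _).trans ((congrArg (v.1 ≫ ·) hs₂).trans
        ((Category.assoc _ _ _).symm.trans (congrArg (· ≫ _) v.2)))⟩
    have hc₁ : pt v₁.1 ∈ connectedComponent z₁ := hπ₁ ▸
      π₁.continuous.image_connectedComponent_subset w ⟨_, hv, (Scheme.Hom.comp_apply _ _ _).symm⟩
    have hc₂ : pt v₂.1 ∈ connectedComponent z₂ := hπ₂ ▸
      π₂.continuous.image_connectedComponent_subset w ⟨_, hv, (Scheme.Hom.comp_apply _ _ _).symm⟩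
    have h1 := (hWcomp i _ (β₁ p yy) z₁ v₁ hc₁).mp hz₁
    refine hz₂ ((hWcomp j _ (β₂ p yy) z₂ v₂ hc₂).mpr ?_)
    let v' := (fiberRestrictIso (h i) (δ p yy ≫ (Dc p yy).ι ≫ pullback.fst (h i) (h j))).hom.app Z v₁
    have h1' : (e₁ p yy).hom.app Z v' ∈ A := by
      simp only [e₁, v', Iso.trans_hom, Iso.symm_hom, NatTrans.comp_app, ConcreteCategory.comp_apply]
      erw [Iso.hom_inv_id_app_apply]
      exact h1
    have h2 := hA (c ⟨p, yy⟩) (Subgroup.subset_closure (.inr ⟨_, rfl⟩)) _ h1'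
    simp only [c, Iso.trans_hom, Iso.symm_hom, NatTrans.comp_app, ConcreteCategory.comp_apply] at h2
    erw [Iso.hom_inv_id_app_apply] at h2
    have hv' : (fiberCongr (heq p yy)).hom.app Z v' =
        (fiberRestrictIso (h j) (δ p yy ≫ (Dc p yy).ι ≫ pullback.snd (h i) (h j))).hom.app Z v₂ :=
      Subtype.ext ((fiberCongr_val _ _ _).trans (by
        show (v.1 ≫ π₁) ≫ pullback.fst _ _ = (v.1 ≫ π₂) ≫ pullback.fst _ _
        exact (Category.assoc _ _ _).trans ((congrArg (v.1 ≫ ·) hf).trans (Category.assoc _ _ _).symm)))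
    erw [hv'] at h2
    simp only [e₂, Iso.trans_hom, Iso.symm_hom, NatTrans.comp_app, ConcreteCategory.comp_apply] at h2
    erw [Iso.hom_inv_id_app_apply] at h2
    exact h2
  obtain ⟨x₀⟩ : Nonempty t₀ := by
    obtain ⟨x', -⟩ := g.surjective (Classical.arbitrary S)
    obtain ⟨y, hy, -⟩ := ht₀ x'
    exact ⟨⟨y, hy⟩⟩
  have hUne : U.Nonempty := by
    let a' := (fiberRestrictIso (h x₀) (η x₀)).inv.app Z ((α x₀).inv.app Z a)
    have : a' ∈ Ai x₀ := ⟨1, one_mem _, by
      show _ = (α x₀).hom.app Z _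
      exact (((congrArg ((α x₀).hom.app Z)
        ((fiberRestrictIso (h x₀) (η x₀)).inv_hom_id_app_apply Z _)).trans
          ((α x₀).inv_hom_id_app_apply Z a))).symm⟩
    exact ⟨_, Set.mem_iUnion.mpr ⟨x₀, pt a'.1, ⟨a', this, mem_connectedComponent⟩, rfl⟩⟩
  have hUclopen : IsClopen U := ⟨hU, by
    rw [show U = U'ᶜ from Set.ext fun z => ⟨hdisj z, fun hz =>
      (hcov.ge (Set.mem_univ z)).resolve_right hz⟩]
    exact hU'.isOpen_compl⟩
  have hUuniv := hUclopen.eq_univ hUne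
  let b' := (fiberRestrictIso (h x₀) (η x₀)).inv.app Z ((α x₀).inv.app Z b)
  by_contra hb
  have hb' : b' ∉ Ai x₀ := fun hmem => hb (by
    obtain ⟨τ, hτ, hτb⟩ := hmem
    refine ⟨τ, hτ, hτb.trans ?_⟩
    exact (congrArg ((α x₀).hom.app Z)
      ((fiberRestrictIso (h x₀) (η x₀)).inv_hom_id_app_apply Z _)).trans
        ((α x₀).inv_hom_id_app_apply Z b))
  exact hdisj _ (hUuniv ▸ Set.mem_univ _)
    (Set.mem_iUnion.mpr ⟨x₀, pt b'.1, fun hmem => hb' (hWpt x₀ b' hmem), rfl⟩)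

end Groth.Agent.FEtLib
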